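import Cfsg.Agent.Lib.RI.Gen2

/-!
# Odd transpositions with connected commuting graph: the classes `E_d`.  See `docs/RI.md`.
-/

set_option autoImplicit false

namespace Cfsg.Lib.RI

open Subgroup Cfsg.Lib.Inv Cfsg.Lib.Core Relation

variable {G : Type*} [Group G] {D B C : Set G} {a b c d e e' f g j k m u v x y z : G}

theorem pow_cj (ha : a * a = 1) (hb : b * b = 1) {n : ℕ} (h : (a * b) ^ (2 * n + 1) = 1) :
    cj ((a * b) ^ (n + 1)) b = a := by
  have h1 : SemiconjBy b (a * b)⁻¹ (a * b) := by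
    rw [SemiconjBy, mul_inv_rev, inv_eq_of_mul_self ha, inv_eq_of_mul_self hb, cancel2 hb, mul_assoc,
      hb, mul_one]
  rw [cj, mul_assoc, ← inv_pow, (h1.pow_right (n + 1)).eq, ← mul_assoc, ← pow_add,
    show n + 1 + (n + 1) = 2 * n + 1 + 1 by ring, pow_succ, h, one_mul, mul_assoc, hb, mul_one]

theorem Od.comm (h : Od a b) (hb : b * b = 1) (h1 : Commute u a) (h2 : Commute u (cj b a)) :
    Commute u b := by
  obtain ⟨n, hn⟩ := exists_pow_eq_self_of_coprime (Nat.coprime_two_left.2 h.2)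
  have h3 := (sq_eq_mul_cj hb a ▸ h1.mul_right h2).pow_right n
  rw [hn] at h3
  simpa using h1.inv_right.mul_right h3

theorem sq_of_closure {S : Set G} (h1 : ∀ s ∈ S, s * s = 1) (h2 : ∀ s ∈ S, ∀ t ∈ S, Commute s t)
    (hm : m ∈ closure S) : m * m = 1 := by
  induction hm using closure_induction with
  | mem t ht => exact h1 t ht
  | one => simp
  | mul m n hm hn e1 e2 =>
    exact mul_sq_of_comm e1 e2 (comm_closure (fun s hs => (comm_closure (h2 s hs) hm).symm) hn)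
  | inv m _ e => rwa [inv_eq_of_mul_self e]

theorem pr_mem {Q : Subgroup (Bar D)} {S : Set G} (h : ∀ s ∈ S, s ∈ D ∧ pr D s ∈ Q)
    (hm : m ∈ closure S) : pr D m ∈ Q := by
  have h1 : closure S ≤ closure D := closure_mono fun s hs => (h s hs).1
  induction hm using closure_induction with
  | mem s hs => exact (h s hs).2
  | one => rw [pr_one]; exact one_mem _
  | mul _ _ h2 h3 h4 h5 => rw [pr_mul (h1 h2) (h1 h3)]; exact mul_mem h4 h5
  | inv _ h2 h3 => rw [pr_inv (h1 h2)]; exact inv_mem h3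

theorem BT.pr_mul_eq_one (hB : BT D) (ha : a ∈ D) (hb : b ∈ D) : pr D (a * b) = 1 ↔ pr D a = pr D b := by
  rw [pr_mul (mem_cl ha) (mem_cl hb)]
  exact ⟨eq_of_mul_eq_one' (hB.sqr hb), fun h => h ▸ hB.sqr ha⟩

theorem pr_cj_ker (hg : g ∈ closure D) (h : pr D g = 1) (ha : a ∈ closure D) :
    pr D (cj g a) = pr D a := by rw [pr_cj hg ha, h, one_cj]

/-- Connected odd transpositions. -/
structure OT (D : Set G) : Prop where
  rt : Rt D
  deg : Deg D
  four : Four D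
  ocon : IsConnectedSet (OddAdj D) D
  con : IsConnectedSet (CommAdj D) D

namespace OT

variable (H : OT D)
include H

theorem od_of (ha : a ∈ D) (hb : b ∈ D) (h : ¬ Commute a b) : Od a b := H.rt.od_of H.deg ha hb h
theorem cm (ha : a ∈ D) (hb : b ∈ D) (h : ¬ Od a b) : Commute a b := H.rt.comm_of H.deg ha hb h
theorem of_mul (hx : x ∈ D) (ha : a ∈ D) (hb : b ∈ D) (hab : Commute a b) (h : Commute x (a * b))
    (hn : ¬ Commute x a) : a = b := by_contra fun e => hn (H.rt.comm_of_mul H.deg hx ha hb hab e h)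

theorem exists_opp (hd : d ∈ D) (hv : v ∈ D) : ∃ y ∈ D, Od d y ∧ Od v y := by
  by_contra! hn
  obtain ⟨y, hy, o⟩ := H.rt.exists_od' H.ocon H.four hd
  obtain ⟨y', hy', o'⟩ := H.rt.exists_od' H.ocon H.four hv
  have s := fun a (ha : a ∈ D) => H.rt.sqr ha
  have key : ∀ w, ReflTransGen (OddAdj D) y w → Commute w v ∧ ∀ z ∈ D, Od v z → Commute w z := by
    intro w h
    induction h with
    | refl =>
      have h1 := H.cm hv hy (hn y hy o)
      refine ⟨h1.symm, fun z hz o1 => o1.comm (s z hz) h1.symm ?_⟩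
      have h2 := H.cm hd hz fun e => hn z hz e o1
      have h3 := Commute_cj z (H.cm hv (H.rt.conj y hy z hz) (hn _ (H.rt.conj y hy z hz)
        (by simpa [cj_of_comm h2.symm] using o.conj z)))
      rw [cj_sq (s z hz)] at h3
      exact h3.symm
    | @tail w w' _ h ih =>
      obtain ⟨hw, hw', o1⟩ := H.rt.oddAdj.1 h
      have h1 := H.cm hv hw' fun e => o1.1 (ih.2 _ hw' e)
      refine ⟨h1.symm, fun z hz o2 => H.cm hw' hz fun o3 => o1.1 (o3.symm.comm (s _ hw') (ih.2 z hz o2)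
        (ih.2 _ (H.rt.conj z hz _ hw') ?_))⟩
      simpa [cj_of_comm h1.symm] using o2.conj w'
  exact o'.1 (key y' (H.ocon y hy y' hy')).1.symm

variable [Finite G]

theorem xs_bt (hx : x ∈ D) (hB : ∀ b ∈ B, b ∈ D ∧ Od x b) (ha : a ∈ B) (hu : u ∈ B)
    (c : Commute a u) (h1 : Es D a ⊆ B) (h2 : ∀ z ∈ D, Commute z a → Commute z u → ∀ b ∈ B, Commute z b) :
    BT (Xs D B x) := by
  have hr := H.rt.xs_rt (B := B) (x := x) H.deg
  have m : ∀ e ∈ B, e ∈ Xs D B x := fun e he =>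
    H.rt.xs_mem hx (hB e he).1 (mem_cl (Or.inr he)) (hB e he).2
  obtain ⟨b, hb, c1, m1⟩ := H.rt.four_at H.ocon H.four (hB a ha).1
  have h4 : Four (Xs D B x) := H.rt.four_oc H.deg (H.rt.inter _) Set.inter_subset_left (m a ha)
    (xs_self hx).1 (hB a ha).2.symm (fun e he => ⟨he.1, mem_cl (Or.inr (h1 he))⟩) hb c1 m1
  refine hr.bt h4 fun hc => ?_
  obtain ⟨z, hz, e1, e2, e3⟩ := hr.pp (H.deg.mono xs_sub) h4 hc (m a ha) (m u hu) (xs_self hx) c
  obtain ⟨w, hw, o⟩ := hr.od_of_ocon xs_ocon (m a ha) (xs_self hx) (hB a ha).2.ne.symm hz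
  refine o.1 (comm_closure ?_ (xs_le (mem_cl hw)))
  rintro s (rfl | hs)
  exacts [e3, h2 z (xs_sub hz) e1 e2 s hs]

section pair
variable (hd : d ∈ D) (hx : x ∈ D) (o : Od d x)
include hd hx o

theorem x_bt : BT (Xs D (Es D d) x) :=
  H.xs_bt hx (H.rt.es_od hd hx o) (self_es hd) (self_es hd) (Commute.refl d) subset_rfl
    fun z hz h _ _ hb => (hb.2 z hz).1 h

omit [Finite G] in
theorem x_cl : closure (Xs D (Es D d) x) = closure (insert x (Es D d)) :=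
  H.rt.xs_cl hx (H.rt.es_od hd hx o)

omit [Finite G] in
theorem x_es (he : e ∈ Es D d) : e ∈ Xs D (Es D d) x :=
  H.rt.xs_mem hx he.1 (mem_cl (Or.inr he)) (H.rt.es_od hd hx o e he).2

theorem x_ec₀ (hu : u ∈ Xs D (Es D d) x) (c : Commute u d) : Ec D d u := by
  by_contra hn
  have hB := H.x_bt hd hx o
  obtain ⟨f, hf, h1, h2, h3⟩ := H.rt.qq H.deg H.four H.ocon H.con (xs_sub hu) hd hx c.symm
    (fun e => hn e.symm) (hB.od (xs_self hx) hu fun e => o.1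
      (hB.trans (H.x_es hd hx o (self_es hd)) hu (xs_self hx) c.symm e.symm)) o.symm
  refine h3.1 (comm_closure ?_ (xs_le (mem_cl hu)))
  rintro s (rfl | hs)
  exacts [h2, (hs.2 f hf).1 h1]

omit [Finite G] in
theorem x_conj (hy : y ∈ Xs D (Es D d) x) : ∃ g ∈ closure (Xs D (Es D d) x), cj g d = y :=
  (H.rt.xs_rt H.deg).oc_conj' (xs_ocon _ (H.x_es hd hx o (self_es hd)) _ hy)

theorem x_ec (hy : y ∈ Xs D (Es D d) x) (hu : u ∈ Xs D (Es D d) x) (c : Commute u y) : Ec D y u := by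
  obtain ⟨g, hg, rfl⟩ := H.x_conj hd hx o hy
  have := H.rt.ec_cj (closure_mono xs_sub hg) (H.x_ec₀ hd hx o
    ((H.rt.xs_rt H.deg).cjm (inv_mem hg) hu) (commute_cj_right.1 c))
  rwa [cj_cj_inv] at this

omit [Finite G] in
theorem x_es' (hy : y ∈ Xs D (Es D d) x) (he : e ∈ Es D y) : e ∈ Xs D (Es D d) x := by
  obtain ⟨g, hg, rfl⟩ := H.x_conj hd hx o hy
  have hg' := inv_mem (closure_mono xs_sub hg)
  have := H.rt.ec_cj hg' he.2
  rw [cj_inv_cj] at this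
  simpa using (H.rt.xs_rt H.deg).cjm hg (H.x_es hd hx o ⟨H.rt.cjm hg' he.1, this⟩)

theorem star : ∃ g ∈ closure (insert x (Es D d)), Two g ∧ Commute (cj g d) d ∧
    Commute (cj g x) (cj x d) ∧ cj x (cj g x) ∈ Es D d := by
  have hB := H.x_bt hd hx o
  have m1 := H.x_es hd hx o (self_es hd)
  have m2 := xs_self (B := Es D d) hx
  obtain ⟨g, hg, h1, h2, h3⟩ := hB.exists_two m1 m2 (hB.rt.conj _ m1 _ m2) o.1
    (o.not_comm_cj (H.rt.sqr hd) (H.rt.sqr hx))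
  have h5 := hB.rt.conj _ (hB.rt.cjm hg m2) _ m2
  exact ⟨g, xs_le hg, h1, h2, h3, xs_sub h5, H.x_ec₀ hd hx o h5
    (by simpa [cj_sq (H.rt.sqr hx)] using Commute_cj x h3)⟩

theorem dec (hm : m ∈ closure (Es D d)) : Ec D (cj m x) x ∨ ∃ t ∈ Es D d, Commute (t * m) x := by
  have hB := H.x_bt hd hx o
  have m1 := H.x_es hd hx o (self_es hd)
  have m2 := xs_self (B := Es D d) hx
  have hm' : m ∈ closure (Xs D (Es D d) x) := closure_mono (fun e he => H.x_es hd hx o he) hm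
  by_cases h : Commute (cj m x) x
  · exact Or.inl (H.x_ec hd hx o m2 (hB.rt.cjm hm' m2) h).symm
  obtain ⟨_, Q, E, Q₀, K, s, r, hR, hd0⟩ := hB.model m1 m2 o.1
  have h1 : pr _ m ∈ Q₀ := pr_mem (fun e he => ⟨H.x_es hd hx o he,
    (hB.mem_Q0 hR m1 hd0 (H.x_es hd hx o he)).2 (he.2.comm hd).symm⟩) hm
  obtain ⟨t, ht, c, e⟩ := hB.exists_mem_Q0 hR m1 hd0 h1 fun e => h (hB.ker_fix hm' e m2)
  obtain ⟨g, hg, h2, h3, -⟩ := dih (H.rt.sqr hx) (sq_of_closure (fun s h => H.rt.sqr h.1)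
    (fun s h t h' => Rt.es_comm h h') hm) (hB.od m2 (hB.rt.cjm hm' m2) fun e => h e.symm).2
  have hy := hB.rt.cjm (pair_le (mem_cl m2) hm' hg) m2
  refine Or.inr ⟨_, ⟨xs_sub hy, H.x_ec₀ hd hx o hy (hB.trans hy ht m1 (hB.comm hy ht ?_) c)⟩, h3.symm⟩
  rw [e]
  exact pr_comm (mem_cl hy) hm' h2

end pair

section mtch
variable (hB : BT C) (hC : C ⊆ D) (hd : d ∈ C) (hc : c ∈ C) (h : Commute d c) (h1 : Es D d ⊆ C)
  (h2 : Es D c ⊆ C)
include hB hC hd hc h h1 h2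

theorem match₁ (hx : x ∈ C) (hn : ¬ Commute d x) : ∃ d₀ ∈ Es D d, ∃ c₀ ∈ Es D c, pr C d₀ = pr C c₀ := by
  obtain ⟨g, hg, e1, e2, e3, e4⟩ := H.star (hC hd) (hC hx) (hB.od hd hx hn)
  obtain ⟨g', hg', f1, f2, f3, f4⟩ := H.star (hC hc) (hC hx)
    (hB.od hc hx fun e => hn (hB.trans hd hc hx h e))
  replace hg := closure_mono (Set.insert_subset hx h1) hg
  replace hg' := closure_mono (Set.insert_subset hx h2) hg'
  exact ⟨_, e4, _, f4, hB.matching hd hx hn hg hg' e1 f1 e2 (hB.trans (hB.rt.cjm hg' hd) hc hd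
    (hB.trans (hB.rt.cjm hg' hd) (hB.rt.cjm hg' hc) hc (Commute_cj _ h) f2) h.symm) e3
    (hB.trans (hB.rt.cjm hg' hx) (hB.rt.conj c hc x hx) (hB.rt.conj d hd x hx) f3
      (Commute_cj _ h.symm))⟩

theorem match₂ : ∃ κ ∈ closure C, pr C κ = 1 ∧ Ec D d (cj κ c) := by
  obtain ⟨x, hx, hn⟩ := hB.exists_not_comm hd
  obtain ⟨d₀, e1, c₀, e2, e⟩ := H.match₁ hB hC hd hc h h1 h2 hx hn
  have o1 := (H.rt.es_od (hC hd) (hC hx) (hB.od hd hx hn) _ e1).2.symm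
  have o2 := (H.rt.es_od (hC hc) (hC hx) (hB.od hc hx fun e => hn (hB.trans hd hc hx h e)) _ e2).2.symm
  obtain ⟨n, hn⟩ := o1.2.mul o2.2
  have e3 := pow_cj (H.rt.sqr e1.1) (H.rt.sqr (hC hx)) (n := n)
    (by rw [← hn, pow_mul, pow_orderOf_eq_one, one_pow])
  have e4 := pow_cj (H.rt.sqr e2.1) (H.rt.sqr (hC hx)) (n := n)
    (by rw [← hn, mul_comm, pow_mul, pow_orderOf_eq_one, one_pow])
  have m1 := mul_mem (mem_cl (h1 e1)) (mem_cl hx)
  have m2 := mul_mem (mem_cl (h2 e2)) (mem_cl hx)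
  have m3 := mul_mem (pow_mem m1 (n + 1)) (inv_mem (pow_mem m2 (n + 1)))
  refine ⟨_, m3, ?_, e1.2.trans ?_⟩
  · rw [pr_mul (pow_mem m1 _) (inv_mem (pow_mem m2 _)), pr_inv (pow_mem m2 _), pr_pow m1, pr_pow m2,
      pr_mul (mem_cl (h1 e1)) (mem_cl hx), pr_mul (mem_cl (h2 e2)) (mem_cl hx), e, mul_inv_cancel]
  · have := H.rt.ec_cj (closure_mono hC m3) e2.2.symm
    rwa [← cj_cj, ← cj_eq_iff'.1 e4, e3] at this

theorem fib : ∃ e ∈ Es D d, pr C e = pr C c := by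
  obtain ⟨κ, h3, h4, h5⟩ := H.match₂ hB hC hd hc h h1 h2
  exact ⟨_, ⟨H.rt.cjm (closure_mono hC h3) (hC hc), h5⟩, pr_cj_ker h3 h4 (mem_cl hc)⟩

end mtch

theorem y_bt (hd : d ∈ D) (hv : v ∈ D) (hx : x ∈ D) (h : Commute d v) (o1 : Od d x) (o2 : Od v x) :
    BT (Xs D (Es D d ∪ Es D v) x) ∧ closure (Xs D (Es D d ∪ Es D v) x) =
      closure (insert x (Es D d ∪ Es D v)) ∧ Es D d ⊆ Xs D (Es D d ∪ Es D v) x ∧
      Es D v ⊆ Xs D (Es D d ∪ Es D v) x := by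
  have h1 : ∀ b ∈ Es D d ∪ Es D v, b ∈ D ∧ Od x b := fun b hb =>
    hb.elim (H.rt.es_od hd hx o1 b) (H.rt.es_od hv hx o2 b)
  have h2 := fun b hb => H.rt.xs_mem hx (h1 b hb).1 (mem_cl (Or.inr hb)) (h1 b hb).2
  exact ⟨H.xs_bt hx h1 (Or.inl (self_es hd)) (Or.inr (self_es hv)) h Set.subset_union_left
    fun z hz e1 e2 b hb => hb.elim (fun hb => (hb.2 z hz).1 e1) fun hb => (hb.2 z hz).1 e2,
    H.rt.xs_cl hx h1, fun b hb => h2 b (Or.inl hb), fun b hb => h2 b (Or.inr hb)⟩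

/-- An element of order three propagates to the class. -/
theorem tp (hd : d ∈ D) (he : e ∈ D) (hx : x ∈ D) (h : Commute d e) (o : Od d x)
    (h3 : orderOf (e * x) = 3) : ∃ e' ∈ Es D d, orderOf (e' * x) = 3 := by
  have o' : Od e x := od_of_ne (H.rt.sqr he) (H.rt.sqr hx)
    (fun e1 => by rw [e1, H.rt.sqr hx, orderOf_one] at h3; omega) (h3 ▸ by decide)
  obtain ⟨hB, -, h1, h2⟩ := H.y_bt hd he hx h o o'
  obtain ⟨f, hf, e1⟩ := H.fib hB xs_sub (h1 (self_es hd)) (h2 (self_es he)) h h1 h2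
  have o2 := (H.rt.es_od hd hx o f hf).2.symm
  have m1 := mem_cl (xs_self (B := Es D d ∪ Es D e) hx)
  have m2 := mul_mem (mem_cl (h1 hf)) m1
  have : Fact (Nat.Prime 3) := ⟨Nat.prime_three⟩
  refine ⟨f, hf, orderOf_eq_prime (eq_one_of_pr (pow_mem m2 3) m1 ?_ (odd_pow o2.2 3) ?_)
    fun e => o2.ne (eq_of_mul_eq_one' (H.rt.sqr hx) e)⟩
  · rw [pr_pow m2, pr_mul (mem_cl (h1 hf)) m1, e1, ← pr_mul (mem_cl (h2 (self_es he))) m1,
      ← pr_pow (mul_mem (mem_cl (h2 (self_es he))) m1), ← h3, pow_orderOf_eq_one, pr_one]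
  · rw [cj_pow, ← inv_pow, mul_inv_rev, H.rt.inv_eq hx, H.rt.inv_eq hf.1, cj_inv_inv (H.rt.sqr hx),
      mul_assoc, mul_assoc, H.rt.sqr hx, mul_one]

section simple
variable [IsSimpleGroup G] (hg : closure D = ⊤)
include hg

omit [Finite G] in
theorem ker_ec (h : ∀ y ∈ D, Ec D (cj k y) y) : k = 1 := by
  obtain ⟨a, ha, -⟩ := H.four
  obtain ⟨x, hx, o⟩ := H.rt.exists_od' H.ocon H.four ha
  obtain ⟨g, -, rfl⟩ := H.rt.oc_conj' (H.ocon a ha x hx)
  exact ker_bot (Ec D) (fun g d hd => H.rt.cjm (hg.ge (mem_top g)) hd) (fun d _ => Ec.refl D d)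
    (fun _ _ _ _ _ _ h1 h2 => h1.trans h2.symm) (fun g _ _ h => H.rt.ec_cj (hg.ge (mem_top g)) h) ha
    (fun e => o.1 (e.comm hx).symm) h

theorem es_mem (hd : d ∈ D) (hm : m ∈ closure (Es D d)) (h : m ≠ 1) : m ∈ Es D d := by
  have h0 : ∀ m ∈ closure (Es D d), (∀ y ∈ D, Od d y → Ec D (cj m y) y) → m = 1 :=
    fun m hm h => H.ker_ec hg fun y hy => by
      by_cases o : Od d y
      · exact h y hy o
      · rw [cj_of_comm (comm_closure (fun e he => (he.2 y hy).1 (H.cm hd hy o).symm) hm).symm]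
        exact Ec.refl D y
  have h1 : ∀ m ∈ closure (Es D d), ∀ x ∈ D, Od d x → Commute m x → m = 1 := fun m hm x hx o e =>
    h0 m hm fun y hy o' => jt (I := {y | y ∈ D ∧ Od d y}) (Fx := fun m y => Ec D (cj m y) y)
      (fun t ht => H.rt.sqr ht.1) (fun x hx m hm => H.dec hd hx.1 hx.2 hm) (fun x hx t ht t' ht' => by
        obtain ⟨g, h2, h3⟩ := exists_cj₃ (H.rt.sqr ht.1) (H.rt.sqr ht'.1) (H.rt.sqr hx.1)
          (H.rt.es_od hd hx.1 hx.2 t ht).2.symm (H.rt.es_od hd hx.1 hx.2 t' ht').2.symm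
        refine ⟨g, h3, fun y hy => ?_, fun m hm e => (comm_closure ?_ h2).symm⟩
        · have h4 := H.rt.cjm (hg.ge (mem_top g)) hy.1
          have h5 := (H.rt.es_od hd hy.1 hy.2 t ht).2.conj g
          rw [h3] at h5
          exact ⟨h4, (H.rt.od_of_ec h4 hd ht'.2.symm h5 ht'.1).symm⟩
        · rintro s (rfl | rfl | rfl)
          exacts [(comm_closure (fun _ h => Rt.es_comm ht h) hm).symm,
            (comm_closure (fun _ h => Rt.es_comm ht' h) hm).symm, e])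
      (fun x hx m hm e t ht e' => by
        rw [← cj_cj, cj_of_comm e] at e'
        exact (H.rt.es_od hd hx.1 hx.2 t ht).2.1 (H.rt.comm_of_cj H.deg hx.1 ht.1
          (e'.comm (H.rt.conj x hx.1 t ht.1)).symm))
      (fun x _ => by rw [one_cj]; exact Ec.refl D x) hm ⟨hx, o⟩ e ⟨hy, o'⟩
  by_contra hn
  refine h (h0 m hm fun y hy o => (H.dec hd hy o hm).resolve_right ?_)
  rintro ⟨t, ht, e⟩
  rw [← eq_of_mul_eq_one' (sq_of_closure (fun s h => H.rt.sqr h.1) (fun s h t h' => Rt.es_comm h h') hm)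
    (h1 _ (mul_mem (mem_cl ht) hm) y hy o e)] at hn
  exact hn ht

theorem es_mul (he : e ∈ Es D d) (he' : e' ∈ Es D d) (h : e ≠ e') (hd : d ∈ D) : e * e' ∈ Es D d :=
  H.es_mem hg hd (mul_mem (mem_cl he) (mem_cl he')) fun e1 => h (eq_of_mul_eq_one' (H.rt.sqr he'.1) e1)

theorem pr_inj (hB : BT C) (h1 : Es D d ⊆ C) (hd : d ∈ D) (he : e ∈ Es D d) (he' : e' ∈ Es D d)
    (h : pr C e = pr C e') : e = e' := by_contra fun hn =>
  hB.ne _ (h1 (H.es_mul hg he he' hn hd)) ((hB.pr_mul_eq_one (h1 he) (h1 he')).2 h)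

theorem x_ker (hd : d ∈ D) (hx : x ∈ D) (o : Od d x) (hk : k ∈ closure (Xs D (Es D d) x))
    (h : pr (Xs D (Es D d) x) k = 1) (hy : y ∈ Xs D (Es D d) x) : Commute k y := by
  have hB := H.x_bt hd hx o
  have h1 := hB.rt.cjm hk hy
  exact cj_eq_iff.1 (H.pr_inj hg hB (fun e he => H.x_es' hd hx o hy he) (xs_sub hy)
    ⟨xs_sub h1, H.x_ec hd hx o hy h1 (hB.ker_fix hk h hy)⟩ (self_es (xs_sub hy))
    (pr_cj_ker hk h (mem_cl hy)))

end simple

end OT

end Cfsg.Lib.RI
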