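import Cfsg.Agent.Lib.RI.Cls

/-!
# Odd transpositions with connected commuting graph: lines.  See `docs/RI.md`.
-/

set_option autoImplicit false

namespace Cfsg.Lib.RI

open Subgroup Cfsg.Lib.Inv Cfsg.Lib.Core Cfsg.Lib.BS Relation

variable {G : Type*} [Group G] {D B C : Set G} {a b c d e e' f g j k m u v w x x' y y' z : G}

namespace BT

variable [Finite G] (hB : BT C)
include hB

theorem deg : Deg C := fun _ ha _ hb => hB.not_vp ha hb

theorem bij (hd : d ∈ C) (hx : x ∈ C) (h : ¬ Commute d x) (hx' : x' ∈ C) (e : pr C x' = pr C x) :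
    ∃ c ∈ C, pr C c = pr C d ∧ cj (d * c) x = x' := by
  have key : ∀ d ∈ C, ∀ x ∈ C, ¬ Commute d x → Set.MapsTo (fun c => cj (d * c) x)
      {c | c ∈ C ∧ pr C c = pr C d} {c | c ∈ C ∧ pr C c = pr C x} ∧
      Set.InjOn (fun c => cj (d * c) x) {c | c ∈ C ∧ pr C c = pr C d} := fun d hd x hx h => by
    refine ⟨fun c hc => ?_, fun c hc c' hc' e => by_contra fun hn => ?_⟩
    · have m := mul_mem (mem_cl hd) (mem_cl hc.1)
      exact ⟨hB.rt.cjm m hx, pr_cj_ker m ((hB.pr_mul_eq_one hd hc.1).2 hc.2.symm) (mem_cl hx)⟩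
    · simp only [← cj_cj, cj_inj] at e
      refine h (hB.trans hd hc.1 hx (hB.comm_of_pr_eq hd hc.1 hc.2.symm) (hB.rt.comm_of_mul hB.deg hx
        hc.1 hc'.1 (hB.comm_of_pr_eq hc.1 hc'.1 (hc.2.trans hc'.2.symm)) hn (cj_eq_iff.1 ?_).symm).symm)
      rw [← cj_cj, ← e, cj_sq (hB.rt.sqr hc.1)]
  obtain ⟨c, hc, e1⟩ := surj_of_inj (Set.toFinite _) (Set.toFinite _) (key d hd x hx h).1
    (key d hd x hx h).2 (key x hx d hd fun e => h e.symm).1 (key x hx d hd fun e => h e.symm).2 ⟨hx', e⟩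
  exact ⟨c, hc.1, hc.2, e1⟩

theorem ker_cm (hg : g ∈ closure C) (h : pr C g = 1) (hy : y ∈ C) (hd : d ∈ C) (c : Commute y d) :
    Commute (cj g y) d := hB.trans (hB.rt.cjm hg hy) hy hd (hB.ker_fix hg h hy) c

theorem ord_three {H Q E Q₀ K : Subgroup (Bar C)} {s r : Bar C} (hR : RS H Q E Q₀ K (pr C x) s r)
    (hd : d ∈ C) (hd0 : pr C d ∈ Q₀) (hx : x ∈ C) (h : orderOf (s * pr C x) = 3) :
    ∃ e ∈ C, Commute e d ∧ orderOf (e * x) = 3 := by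
  obtain ⟨e, he, c, rfl⟩ := hB.exists_mem_Q0 hR hd hd0 hR.sQ0 hR.s_ne_one
  have m := mul_mem (mem_cl he) (mem_cl hx)
  rw [← pr_mul (mem_cl he) (mem_cl hx)] at h
  have o := hB.od he hx fun e1 => by
    have h1 := congrArg (pr C) (mul_sq_of_comm (hB.rt.sqr he) (hB.rt.sqr hx) e1)
    rw [pr_mul m m, pr_one, ← sq] at h1
    exact absurd (h ▸ orderOf_dvd_of_pow_eq_one h1) (by decide)
  have : Fact (Nat.Prime 3) := ⟨Nat.prime_three⟩
  refine ⟨e, he, c, orderOf_eq_prime (eq_one_of_pr (pow_mem m 3) (mem_cl hx) ?_ (odd_pow o.2 3) ?_)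
    fun e => o.ne (eq_of_mul_eq_one' (hB.rt.sqr hx) e)⟩
  · rw [pr_pow m, ← h, pow_orderOf_eq_one]
  · rw [cj_pow, ← inv_pow, mul_inv_rev, hB.rt.inv_eq hx, hB.rt.inv_eq he, cj_inv_inv (hB.rt.sqr hx),
      mul_assoc, mul_assoc, hB.rt.sqr hx, mul_one]

end BT

/-- No member commuting with `d` has product of order three with `x`. -/
def N3 (D : Set G) (d x : G) : Prop := ∀ e ∈ D, Commute e d → orderOf (e * x) ≠ 3

/-- Subsets of Bender type closed under taking classes. -/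
structure CB (D C : Set G) : Prop where
  bt : BT C
  sub : C ⊆ D
  es : ∀ y ∈ C, Es D y ⊆ C

/-- The odd component of `d` in the centralizer of `z`. -/
def Cz (D : Set G) (z d : G) : Set G := Oc (D ∩ (centralizer {z} : Subgroup G)) d

theorem cz_sub : Cz D z d ⊆ D := fun _ h => h.1.1
theorem cz_comm (h : y ∈ Cz D z d) : Commute y z := (mem_cz.1 h.1).2
theorem cz_self (hd : d ∈ D) (h : Commute d z) : d ∈ Cz D z d := oc_self (mem_cz.2 ⟨hd, h⟩)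
theorem Rt.cz_step (hD : Rt D) (ha : a ∈ Cz D z d) (hb : b ∈ D) (h : Commute b z) (o : Od a b) :
    b ∈ Cz D z d := (hD.inter _).oc_step ha (mem_cz.2 ⟨hb, h⟩) o

namespace OT

variable (H : OT D)
include H

theorem n3_cj (hg : g ∈ closure D) (h : N3 D d x) : N3 D (cj g d) (cj g x) := fun e he c h3 =>
  h _ (H.rt.cjm (inv_mem hg) he) (commute_cj_right.1 c) (by rw [← h3, ← orderOf_cj g, cj_mul, cj_cj_inv])

theorem n3_symm (hd : d ∈ D) (hx : x ∈ D) (o : Od d x) (h : N3 D d x) : N3 D x d := by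
  obtain ⟨w, hw, h1, e⟩ := exists_swap_of_odd (H.rt.sqr hd) (H.rt.sqr hx) o.2
  have := H.n3_cj (pair_le (mem_cl hd) (mem_cl hx) hw) h
  rwa [← show cj w d = x from e, cj_sq h1, show cj w d = x from e] at this

theorem cz_rt : Rt (Cz D z d) := (H.rt.inter _).oc_rt (H.deg.mono Set.inter_subset_left)

variable [Finite G]

theorem n3_comm (hv : v ∈ D) (hx : x ∈ D) (c : Commute v d) (o : Od v x) (hd : d ∈ D)
    (h : N3 D d x) : N3 D v x := fun _ he c1 h3 =>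
  let ⟨_, h1, h2⟩ := H.tp hv he hx c1.symm o h3
  h _ h1.1 ((h1.2 d hd).1 c.symm).symm h2

theorem n3_cb (hC : CB D C) (hd : d ∈ C) (hx : x ∈ C) (h : ¬ Commute d x) (h3 : N3 D d x)
    (hy : y ∈ C) (hy' : y' ∈ C) (h' : ¬ Commute y y') : N3 D y y' := by
  have hB := hC.bt
  obtain ⟨g, hg, rfl⟩ := hB.rt.oc_conj' (hB.ocon d hd y hy)
  have hx' := hB.rt.cjm hg hx
  obtain ⟨k, hk, -, h1, h2⟩ := hB.exists_two hy hx' hy' (mt commute_cj.1 h) h'
  have h4 := H.n3_cj (closure_mono hC.sub hk) (H.n3_cj (closure_mono hC.sub hg) h3)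
  have m1 := hB.rt.cjm hk hy
  have m2 := hB.rt.cjm hk hx'
  have o1 := hB.od hy m2 fun e => h' (hB.trans hy m2 hy' e h2)
  have o2 := hB.od hy hy' h'
  exact H.n3_symm (hC.sub hy') (hC.sub hy) o2.symm (H.n3_comm (hC.sub hy') (hC.sub hy) h2.symm o2.symm
    (hC.sub m2) (H.n3_symm (hC.sub hy) (hC.sub m2) o1
      (H.n3_comm (hC.sub hy) (hC.sub m2) h1.symm o1 (hC.sub m1) h4)))

theorem x_cb (hd : d ∈ D) (hx : x ∈ D) (o : Od d x) : CB D (Xs D (Es D d) x) :=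
  ⟨H.x_bt hd hx o, xs_sub, fun _ hy _ he => H.x_es' hd hx o hy he⟩

theorem cb_fib (hC : CB D C) (hd : d ∈ C) (hc : c ∈ C) (h : Commute d c) :
    ∃ e ∈ Es D d, pr C e = pr C c := H.fib hC.bt hC.sub hd hc h (hC.es d hd) (hC.es c hc)

omit [Finite G] in
theorem x_le (hC : CB D C) (hd : d ∈ C) (hx : x ∈ C) : closure (Xs D (Es D d) x) ≤ closure C :=
  xs_le.trans (closure_mono (Set.insert_subset hx (hC.es d hd)))

omit [Finite G] in
theorem x_sub (hC : CB D C) (hd : d ∈ C) (hx : x ∈ C) (o : Od d x) : Xs D (Es D d) x ⊆ C := fun y hy => by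
  obtain ⟨g, hg, rfl⟩ := H.x_conj (hC.sub hd) (hC.sub hx) o hy
  exact hC.bt.rt.cjm (H.x_le hC hd hx hg) hd

omit [Finite G] in
theorem cz_four (hz : z ∈ D) (hd : d ∈ D) (hx : x ∈ D) (c1 : Commute d z) (c2 : Commute x z)
    (o : Od d x) : Four (Cz D z d) :=
  let ⟨_, hb, c, m⟩ := H.rt.four_at H.ocon H.four hd
  H.rt.four_oc H.deg (H.rt.inter _) Set.inter_subset_left (cz_self hd c1) (mem_cz.2 ⟨hx, c2⟩) o
    (es_sub_cz hz c1.symm) hb c m

omit [Finite G] in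
theorem cz_es (hz : z ∈ D) (hx : x ∈ Cz D z d) (hne : x ≠ d) (hy : y ∈ Cz D z d) :
    Es D y ⊆ Cz D z d := fun e he => by
  obtain ⟨w, hw, o⟩ := H.cz_rt.od_of_ocon Rt.oc_ocon hx (oc_self (rtg_mem (S := D ∩ _)
    (fun a b h => h.2.1) hx.1 ((H.rt.inter _).oc_symm hx.2))) hne hy
  exact H.rt.cz_step hw he.1 ((he.2 z hz).1 (cz_comm hy).symm).symm
    (H.rt.od_of_ec (cz_sub hw) he.1 he.2 o.symm (cz_sub hy))

theorem line_sub (hu : u ∈ D) (hB : BT (Cz D u d)) (hv : v ∈ Cz D u d) (hx : x ∈ Cz D u d)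
    (h : ¬ Commute v x) (hu' : u ∈ Cz D v d) (hc : c ∈ Cz D u d) (h1 : Commute c v) :
    Ec D c v ∨ c ∈ Cz D v d := by
  refine or_iff_not_imp_left.2 fun h2 => ?_
  obtain ⟨f, hf, e1, e2, o⟩ := H.rt.qq H.deg H.four H.ocon H.con (cz_sub hc) (cz_sub hv) (cz_sub hx)
    h1.symm h2 (hB.od hx hc fun e => h (hB.trans hv hc hx h1.symm e.symm)) (hB.od hv hx h).symm
  exact H.rt.cz_step (H.rt.cz_step hu' hf e1 (H.od_of hu hf fun e => h
    (hB.trans hv (H.rt.cz_step hc hf e.symm o.symm) hx e1.symm e2))) (cz_sub hc) h1 o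

variable [IsSimpleGroup G] (hg : closure D = ⊤)
include hg

theorem third (hd : d ∈ D) (hy : y ∈ D) (ha : a ∈ Es D d) (hb : b ∈ Es D v) (hn : ¬ Ec D d v)
    (o1 : Od d y) (o2 : Od y b) (c : Commute a b) (hw : w ∈ D) (h : Commute y (w * (a * b))) :
    ¬ Ec D d w := fun e => by
  rw [← mul_assoc] at h
  by_cases h1 : w = a
  · rw [h1, H.rt.sqr ha.1, one_mul] at h; exact o2.1 h
  have h2 := H.es_mul hg ⟨hw, e⟩ ha h1 hd
  have h3 := H.of_mul hy h2.1 hb.1 ((h2.2 b hb.1).1 ((ha.2 b hb.1).2 c.symm)).symm h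
    (H.rt.es_od hd hy o1 _ h2).2.1
  exact hn ((h3 ▸ h2.2).trans hb.2.symm)

theorem g1 (hd : d ∈ D) (hx : x ∈ D) (o : Od d x) : ∃ v ∈ D, Commute v d ∧ ¬ Ec D d v ∧ Od v x := by
  by_contra! hn
  replace hn := fun v hv h1 h2 => H.cm hv hx (hn v hv h1 h2)
  obtain ⟨v, hv, c1, -, c2⟩ := H.rt.pp H.deg H.four H.con hd hd hx (Commute.refl d)
  have ne : ¬ Ec D d v := fun e => o.1 ((e x hx).2 c2.symm).symm
  obtain ⟨y, hy, o1, o2⟩ := H.exists_opp hd hv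
  obtain ⟨hB, hcl, h1, h2⟩ := H.y_bt hd hv hy c1.symm o1 o2
  set C := Xs D (Es D d ∪ Es D v) y
  have hd' := h1 (self_es hd)
  have hv' := h2 (self_es hv)
  have hy' : y ∈ C := xs_self hy
  obtain ⟨κ, hκ, k1, k2⟩ := H.match₂ hB xs_sub hd' hv' c1.symm h1 h2
  have hκ' := closure_mono xs_sub hκ
  have ha : cj κ v ∈ Es D d := ⟨H.rt.cjm hκ' hv, k2⟩
  obtain ⟨b, hb', c3, m⟩ := H.rt.four_at H.ocon H.four hv
  have hb : b ∈ Es D v := ⟨hb', H.rt.ec_of_xp H.deg hv hb' c3 m⟩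
  have hm := H.es_mul hg (self_es hv) hb (H.rt.ne_of_mul hb' m) hv
  have c4 : Commute (cj κ v) b := k2.comm₂ hb.2 ha.1 hv c1.symm
  have m1 := mul_mem (mem_cl (h1 ha)) (mem_cl (h2 hb))
  have e1 : pr C (cj κ v * b) = pr C (v * b) := by
    rw [pr_mul (mem_cl (h1 ha)) (mem_cl (h2 hb)), pr_cj_ker hκ k1 (mem_cl hv'),
      pr_mul (mem_cl hv') (mem_cl (h2 hb))]
  obtain ⟨g, h3, h4, h5, -⟩ := dih (H.rt.sqr hy) (mul_sq_of_comm (H.rt.sqr ha.1) (H.rt.sqr hb') c4)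
    (hB.od hy' (hB.rt.cjm m1 hy') fun e => (H.rt.es_od hv hy o2 _ hm).2.1 (H.rt.comm_of_cj H.deg hy m
      (hB.comm hy' (hB.rt.conj _ hy' _ (h2 hm)) (by
        rw [pr_cj (mem_cl (h2 hm)) (mem_cl hy'), ← e1, ← pr_cj m1 (mem_cl hy')]
        exact pr_comm (mem_cl hy') (cj_mem m1 (mem_cl hy')) e)))).2
  have hw := hB.rt.cjm (pair_le (mem_cl hy') m1 h3) hy'
  generalize cj g y = w at *
  have hw' := xs_sub hw
  have c5 : Commute w v := (hm.2 w hw').2 (hB.comm hw (h2 hm) (e1 ▸ pr_comm (mem_cl hw) m1 h4))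
  have c6 := hB.trans hw hv' hd' c5 c1
  have n1 := H.third hg hd hy ha hb ne o1 (H.rt.es_od hv hy o2 _ hb).2 c4 hw' h5
  have n2 := H.third hg hv hy hb ha (fun e => ne e.symm) o2 (H.rt.es_od hd hy o1 _ ha).2 c4.symm hw'
    (c4.eq ▸ h5)
  have c7 : Commute (w * (cj κ v * b)) κ := comm_closure (by
    have : ∀ s ∈ C, Commute s d → Commute (w * (cj κ v * b)) s := fun s hs e =>
      (hB.trans hw hd' hs c6 e.symm).mul_left (((ha.2 s (xs_sub hs)).1 e).symm.mul_left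
        ((hb.2 s (xs_sub hs)).1 (hB.trans hs hd' hv' e c1.symm)).symm)
    rintro s (rfl | hs | hs)
    exacts [h5.symm, this s (h1 hs) (hs.2.comm hd).symm, this s (h2 hs) ((hs.2 d hd).1 c1.symm).symm])
    (hcl.le hκ)
  have c8 : ∀ s ∈ C, Commute s d → ¬ Ec D v s → Commute s (cj κ⁻¹ x) := fun s hs e1 e2 =>
    commute_cj_left.1 (hn _ (H.rt.cjm hκ' (xs_sub hs)) (hB.ker_cm hκ k1 hs hd' e1) fun e => e2 (by
      simpa using H.rt.ec_cj (inv_mem hκ') (k2.symm.trans e)))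
  have e2 : cj (w * (cj κ v * b)) x = cj (cj κ v) x := by
    rw [← cj_cj, ← cj_cj, cj_of_comm ((hb.2 x hx).1 c2.symm).symm, cj_cj' w,
      cj_of_comm ((ha.2 w hw').1 c6), cj_of_comm (hn w hw' c6 n1)]
  have e3 : cj (w * (cj κ v * b)) (cj κ⁻¹ x) = cj b (cj κ⁻¹ x) := by
    rw [c4.eq, ← cj_cj, ← cj_cj b, cj_of_comm (c8 _ (h1 ha) (k2.comm hd).symm fun e =>
      ne (k2.trans e.symm)), cj_cj' w, cj_of_comm ((hb.2 w hw').1 c5), cj_of_comm (c8 w hw c6 n2)]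
  have e4 := congrArg (cj κ⁻¹) e2
  rw [cj_cj', cj_of_comm c7.symm.inv_left, e3, cj_cj' κ⁻¹ (cj κ v), cj_inv_cj] at e4
  have o3 := (H.rt.es_od hd hx o _ ha).2.conj κ⁻¹
  rw [cj_inv_cj] at o3
  refine (H.rt.es_od hv (H.rt.cjm (inv_mem hκ') hx) o3.symm _ hm).2.1 (cj_eq_iff.1 ?_).symm
  rw [← cj_cj, e4, cj_sq (H.rt.sqr hv)]

theorem card_Q0 (hC : CB D C) {P Q E Q₀ K : Subgroup (Bar C)} {t s r : Bar C}
    (hR : RS P Q E Q₀ K t s r) (hd : d ∈ C) (hd0 : pr C d ∈ Q₀) :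
    Nat.card Q₀ = Nat.card (closure (Es D d)) := by
  have le := closure_mono (hC.es d hd)
  have sq := fun m (hm : m ∈ closure (Es D d)) => sq_of_closure (fun s h => H.rt.sqr h.1)
    (fun s h t h' => Rt.es_comm h h') hm
  refine (Nat.card_congr (Equiv.ofBijective (fun m : closure (Es D d) => (⟨pr C m, pr_mem (fun e he =>
    ⟨hC.es d hd he, (hC.bt.mem_Q0 hR hd hd0 (hC.es d hd he)).2 (he.2.comm (hC.sub hd)).symm⟩) m.2⟩ : Q₀))
    ⟨fun m n e => Subtype.ext (eq_of_mul_eq_one' (sq _ n.2) (by_contra fun hn => ?_)), fun z => ?_⟩)).symm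
  · refine hC.bt.ne _ (hC.es d hd (H.es_mem hg (hC.sub hd) (mul_mem m.2 n.2) hn)) ?_
    rw [pr_mul (le m.2) (le n.2), show pr C m = pr C n from congrArg Subtype.val e,
      ← pr_mul (le n.2) (le n.2), sq _ n.2, pr_one]
  · by_cases h : z.1 = 1
    · exact ⟨1, Subtype.ext (pr_one.trans h.symm)⟩
    obtain ⟨y, hy, c, e⟩ := hC.bt.exists_mem_Q0 hR hd hd0 z.2 h
    obtain ⟨e', he, e1⟩ := H.cb_fib hC hd hy c.symm
    exact ⟨⟨e', mem_cl he⟩, Subtype.ext (e1.trans e)⟩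

omit hg [IsSimpleGroup G] in
theorem sz_type (hC : CB D C) {P Q E Q₀ K : Subgroup (Bar C)} {s r : Bar C}
    (hR : RS P Q E Q₀ K (pr C x) s r) (hd : d ∈ C) (hd0 : pr C d ∈ Q₀) (hx : x ∈ C) (h : N3 D d x) :
    ¬ IsMulCommutative Q ∧ Nat.card Q = Nat.card Q₀ ^ 2 := by
  have h1 : orderOf (s * pr C x) ≠ 3 := fun e =>
    let ⟨e', h1, h2, h3⟩ := hC.bt.ord_three hR hd hd0 hx e
    h e' (hC.sub h1) h2 h3
  obtain ⟨-, h2 | h2 | h2⟩ := concl hR
  exacts [(h1 h2.2).elim, ⟨h2.1, h2.2.1⟩, (h1 h2.2.2.1).elim]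

theorem cover (hC : CB D C) (hd : d ∈ C) (hx : x ∈ C) (h : ¬ Commute d x) (h3 : N3 D d x)
    (hy : y ∈ C) : ∃ w ∈ Xs D (Es D d) x, Commute w y := by
  have hB := hC.bt
  have o := hB.od hd hx h
  have hX := H.x_cb (hC.sub hd) (hC.sub hx) o
  have m1 := H.x_es (hC.sub hd) (hC.sub hx) o (self_es (hC.sub hd))
  have m2 := xs_self (B := Es D d) (hC.sub hx)
  by_cases h1 : Commute d y
  · exact ⟨d, m1, h1⟩
  obtain ⟨P, Q, E, Q₀, K, s, r, hR, hd0⟩ := hB.model hd hx h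
  obtain ⟨P', Q', E', Q₀', K', s', r', hR', hd0'⟩ := hX.bt.model m1 m2 h
  have e1 : Nat.card Q = Nat.card Q' := by
    rw [(H.sz_type hC hR hd hd0 hx h3).2, (H.sz_type hX hR' m1 hd0' m2 h3).2,
      H.card_Q0 hg hC hR hd hd0, H.card_Q0 hg hX hR' m1 hd0']
  choose f f1 f2 f3 using fun z : Q' => exists_two_lift (two_of_mem (concl hR').1 z.2)
  have f4 := fun z : Q' => (hX.bt.mem_H hR' m1 hd0' (f1 z)).1 (f3 z ▸ hR'.QH z.2)
  have le := H.x_le hC hd hx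
  have c : ∀ g ∈ closure C, ∀ g' ∈ closure C, pr C g = pr C g' → Commute (cj g x) (cj g' x) :=
    fun g h1 g' h2 e => hB.comm_of_pr_eq (hB.rt.cjm h1 hx) (hB.rt.cjm h2 hx) (by
      rw [pr_cj h1 (mem_cl hx), pr_cj h2 (mem_cl hx), e])
  obtain ⟨g, h4, h5, h6, h7⟩ := hB.exists_two hd hx hy h h1
  obtain ⟨z, e⟩ := (Function.Injective.bijective_of_nat_card_le
    (f := fun z : Q' => (⟨_, hB.mem_Q hR hd hd0 (le (f1 z)) (f2 z) (f4 z)⟩ : Q)) (fun z z' e => Subtype.ext (by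
      rw [← f3, ← f3]
      exact hX.bt.reg m1 m2 h (f1 z) (f1 z') (f2 z) (f2 z') (f4 z) (f4 z')
        (c _ (le (f1 z)) _ (le (f1 z')) (congrArg Subtype.val e)))) e1.le).2
    ⟨_, hB.mem_Q hR hd hd0 h4 h5 h6⟩
  exact ⟨_, hX.bt.rt.cjm (f1 z) m2, hB.trans (hB.rt.cjm (le (f1 z)) hx) (hB.rt.cjm h4 hx) hy
    (c _ (le (f1 z)) _ h4 (congrArg Subtype.val e)) h7⟩

theorem ker_comm (hC : CB D C) (h3 : ∀ y ∈ C, ∀ y' ∈ C, ¬ Commute y y' → N3 D y y') (hx : x ∈ C)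
    (hx' : x' ∈ C) (e : pr C x = pr C x') (hy : y ∈ C) (hy' : y' ∈ C) (e' : pr C y = pr C y')
    (hc : c ∈ C) : cj (x * x' * (y * y')) c = cj (y * y' * (x * x')) c := by
  have hB := hC.bt
  have c1 := hB.comm_of_pr_eq hx hx' e
  have c2 := hB.comm_of_pr_eq hy hy' e'
  have key : ∀ x ∈ C, ∀ x' ∈ C, pr C x = pr C x' → ∀ y ∈ C, ∀ y' ∈ C, pr C y = pr C y' → ∀ t ∈ C,
      Commute t x → cj (x * x' * (y * y')) t = cj (y * y' * (x * x')) t := by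
    intro x hx x' hx' e y hy y' hy' e' t ht h
    have h1 : ∀ t ∈ C, Commute t x → cj (x * x') t = t := fun t ht h => cj_of_comm (h.symm.mul_left
      (hB.trans ht hx hx' h (hB.comm_of_pr_eq hx hx' e)).symm)
    have m := mul_mem (mem_cl hy) (mem_cl hy')
    rw [← cj_cj, ← cj_cj (y * y'), h1 t ht h,
      h1 _ (hB.rt.cjm m ht) (hB.ker_cm m ((hB.pr_mul_eq_one hy hy').2 e') ht hx h)]
  have i : ∀ t, cj (x * x' * (y * y')) t = cj (y * y' * (x * x')) t ↔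
      Commute ((y * y' * (x * x'))⁻¹ * (x * x' * (y * y'))) t := fun t => by
    rw [← cj_eq_iff, ← cj_cj (y * y' * (x * x'))⁻¹, cj_eq_iff' (g := _⁻¹), inv_inv]
  by_cases h : Commute x y
  · have h1 := hB.trans hx' hx hy c1.symm h
    rw [((h.mul_right (hB.trans hx hy hy' h c2)).mul_left
      (h1.mul_right (hB.trans hx' hy hy' h1 c2))).eq]
  by_cases h1 : Commute c x
  · exact key x hx x' hx' e y hy y' hy' e' c hc h1
  obtain ⟨w, hw, h2⟩ := H.cover hg hC hx hy h (h3 x hx y hy h) hc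
  have o := hB.od hx hy h
  have hw' := H.x_sub hC hx hy o hw
  obtain ⟨f, hf, e1⟩ := H.cb_fib hC hw' hc h2
  have hf' := hC.es w hw' hf
  obtain ⟨b, hb, e2, rfl⟩ := hB.bij hx hf' (fun e => h1 (hB.trans hc hf' hx
    (hB.comm_of_pr_eq hc hf' e1.symm) e.symm)) hc e1.symm
  have k1 := fun t ht h => (i t).1 (key x hx x' hx' e y hy y' hy' e' t ht h)
  refine (i _).2 (RI.comm_cj ((k1 x hx (Commute.refl x)).mul_right (k1 b hb (hB.comm_of_pr_eq hb hx e2)))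
    (comm_closure ?_ (xs_le (mem_cl (H.x_es' (hC.sub hx) (hC.sub hy) o hw hf)))))
  rintro s (rfl | hs)
  · exact (i s).1 (key s hy y' hy' e' x hx x' hx' e s hy (Commute.refl s)).symm
  · exact k1 s (hC.es x hx hs) (hs.2.comm (hC.sub hx)).symm

end OT

end Cfsg.Lib.RI
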