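import Cfsg.Agent.Lib.RI.Odd2

/-!
# Non-degenerate root involutions: the graph `𝓔(D)` is connected.  See `docs/RI.md`.
-/

set_option autoImplicit false

namespace Cfsg.Lib.RI

open Subgroup Cfsg.Lib.Inv Relation

variable {G : Type*} [Group G] {D T : Set G} {a b c d e f g j k p t u w x y z : G}

/-- The component of `a` in the graph `𝓔(D)`. -/
abbrev Pc (D : Set G) (a : G) : Set G := elemComponentOf (ProdAdj D) D a

/-- Some pair has product of order four. -/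
def Nd (D : Set G) : Prop := ∃ a ∈ D, ∃ b ∈ D, Vp a b

theorem od_of_three (ha : a * a = 1) (hx : x * x = 1) (h : orderOf (a * x) = 3) : Od a x :=
  od_of_ne ha hx (fun e1 => by rw [e1, hx, orderOf_one] at h; omega) (h ▸ by decide)

namespace Rt

variable (hD : Rt D)
include hD

theorem four_of_nd (h : Nd D) : Four D :=
  let ⟨a, ha, _, hb, h⟩ := h
  ⟨a, ha, _, hD.vp_mem ha hb h, h.comm_left, hD.vp_left ha hb⟩

theorem vp_at (ho : IsConnectedSet (OddAdj D) D) (h : Nd D) (ha : a ∈ D) : ∃ w ∈ D, Vp a w := by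
  obtain ⟨b, hb, w, hw, h⟩ := h
  obtain ⟨g, hg, rfl⟩ := hD.oc_conj' (ho b hb a ha)
  exact ⟨_, hD.cjm hg hw, vp_cj.2 h⟩

theorem ocon_of_class (hg : closure D = ⊤) (hc : ∀ a ∈ D, ∀ b ∈ D, ∃ g : G, b = g * a * g⁻¹)
    (ha : a ∈ D) (hx : x ∈ D) (o : Od a x) : IsConnectedSet (OddAdj D) D := fun b hb c hc' => by
  obtain ⟨g, rfl⟩ := hc a ha b hb
  obtain ⟨k, rfl⟩ := hc a ha c hc'
  exact (hD.oc_symm (hD.oc_cj_self' ha hx o (hg.ge (mem_top g)))).trans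
    (hD.oc_cj_self' ha hx o (hg.ge (mem_top k)))

omit hD in
theorem pc_symm (h : ReflTransGen (ProdAdj D) a b) : ReflTransGen (ProdAdj D) b a :=
  rtg_symm (fun _ _ h => ⟨h.2.1, h.1, h.2.2.1.symm, h.2.2.2.1.symm, h.2.2.2.1 ▸ h.2.2.2.2⟩) h

theorem pc_step (ha : a ∈ Pc D p) (hb : b ∈ D) (c : Commute a b) (m : a * b ∈ D) : b ∈ Pc D p :=
  ⟨hb, ha.2.tail ⟨ha.1, hb, hD.ne_of_mul hb m, c, m⟩⟩

theorem pc_vp (ha : a ∈ Pc D p) (hb : b ∈ D) (h : Vp a b) : b ∈ Pc D p :=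
  hD.pc_step (hD.pc_step ha (hD.vp_mem ha.1 hb h) h.comm_left (hD.vp_left ha.1 hb)) hb
    (h.comm_right (hD.sqr hb)).symm ((h.comm_right (hD.sqr hb)).eq ▸ hD.vp_right ha.1 hb h)

theorem pc_cj (hg : g ∈ closure D) (h : ReflTransGen (ProdAdj D) a b) :
    ReflTransGen (ProdAdj D) (cj g a) (cj g b) := rtg_map _ (fun _ _ h => .single
  ⟨hD.cjm hg h.1, hD.cjm hg h.2.1, mt cj_inj.1 h.2.2.1, Commute_cj g h.2.2.2.1,
    cj_mul g _ _ ▸ hD.cjm hg h.2.2.2.2⟩) h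

theorem pc_blk (hg : g ∈ closure D) (ha : a ∈ Pc D p) (h : cj g a ∈ Pc D p) (hb : b ∈ Pc D p) :
    cj g b ∈ Pc D p := ⟨hD.cjm hg hb.1, h.2.trans (hD.pc_cj hg ((pc_symm ha.2).trans hb.2))⟩

theorem pc_rt : Rt (Pc D p) := hD.mono (fun _ h => h.1)
  (fun _ hd e he => hD.pc_blk (mem_cl he.1) he (by rwa [cj_self]) hd)
  fun _ ha _ hb h => hD.pc_step ha (hD.vp_mem ha.1 hb.1 h) h.comm_left (hD.vp_left ha.1 hb.1)

variable [Finite G] (ho : IsConnectedSet (OddAdj D) D)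
include ho

theorem vp_s3 (ha : a ∈ D) (hw : w ∈ D) (h : Vp a w) :
    ∃ x ∈ D, Vp (a * cj w a) x ∧ Commute x w ∧ orderOf (a * x) = 3 := by
  have hb := hD.vp_mem ha hw h
  have c := h.comm_right (hD.sqr hw)
  obtain ⟨x, hx, h1, h2⟩ := hD.exists_cj_eq ho hb hw c.symm (c.eq ▸ hD.vp_right ha hw h)
    fun e => h.1 ((e a ha).1 h.comm_left)
  exact ⟨x, hx, h1, h2 ▸ h1.comm_right (hD.sqr hx), hD.s3 ha hb hw hx h rfl h1 h2⟩

theorem pc_ocon (h : Nd D) : IsConnectedSet (OddAdj (Pc D p)) (Pc D p) := by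
  have h1 : ∀ t ∈ Pc D p, ∃ x ∈ Pc D p, Od t x := fun t ht => by
    obtain ⟨w, hw, h1⟩ := hD.vp_at ho h ht.1
    obtain ⟨x, hx, h2, -, h3⟩ := hD.vp_s3 ho ht.1 hw h1
    exact ⟨x, hD.pc_vp (hD.pc_step ht (hD.vp_mem ht.1 hw h1) h1.comm_left (hD.vp_left ht.1 hw)) hx h2,
      od_of_three (hD.sqr ht.1) (hD.sqr hx) h3⟩
  have h2 : ∀ t, ReflTransGen (ProdAdj D) p t → ReflTransGen (OddAdj (Pc D p)) p t := fun t ht => by
    induction ht with
    | refl => exact .refl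
    | tail h2 h3 ih =>
      have m1 : _ ∈ Pc D p := ⟨h3.1, h2⟩
      have m2 : _ ∈ Pc D p := ⟨h3.2.1, h2.tail h3⟩
      obtain ⟨x, hx, o1⟩ := h1 _ m1
      obtain ⟨y, hy, o2⟩ := h1 _ m2
      exact ih.trans (hD.pc_rt.oc_of_prod m1 m2 h3.2.2.2.1 (hD.pc_step m1 h3.2.2.2.2
        ((Commute.refl _).mul_right h3.2.2.2.1) (by rw [cancel2 (hD.sqr h3.1)]; exact h3.2.1)) hx o1 hy o2)
  exact fun a ha b hb => (hD.pc_rt.oc_symm (h2 a ha.2)).trans (h2 b hb.2)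

omit ho in
theorem pc_comm (ha : a ∈ Pc D p) (hb : b ∈ D) (h : Commute a b) (hn : b ∉ Pc D p)
    (ht : t ∈ Pc D p) : Commute t b := by
  rcases hD.tri ht.1 hb with h1 | h1 | h1
  · exact h1
  · obtain ⟨g, hg, rfl⟩ := exists_cj_of_odd (hD.sqr ht.1) (hD.sqr hb) h1.2
    exact (hn (nz_cj (pair_le (H := normalizer (Pc D p)) (mem_normalizer_fintype fun _ h =>
      hD.pc_rt.conj _ h t ht) (mem_normalizer_fintype fun _ h' => hD.pc_blk (mem_cl hb) ha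
        (by rwa [cj_of_comm h.symm]) h') hg) ht)).elim
  · exact (hn (hD.pc_vp ht hb h1)).elim

theorem od_in {Y : Subgroup G} (ht : t ∈ D) (hy : y ∈ D) (hy' : y ∈ Y) (o : Od t y) (hb : b ∈ D)
    (c : Commute t b) (m : t * b ∈ D) (h : ∀ c ∈ D, Commute t c → t * c ∈ D → c ∈ Y) :
    ∃ z ∈ D ∩ Y, Od b z := by
  by_contra! hn
  obtain ⟨w, hw, h1, h2⟩ := hD.exists_cj_eq ho hb ht c.symm (c.eq ▸ m) fun e =>
    hn y ⟨hy, hy'⟩ (hD.od_of_ec hy hb e.symm o.symm ht).symm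
  have c1 : Commute w t := h2 ▸ h1.comm_right (hD.sqr hw)
  have hw' := h w hw c1.symm (c1.eq ▸ h2 ▸ hD.vp_right hb hw h1)
  refine l1 (hD.sqr hb) (cj_mul_self (hD.sqr hb) w) h1.2 (hD.comm_cj hy hb fun e => hn y ⟨hy, hy'⟩ e.symm)
    (hD.comm_cj hy (hD.conj b hb w hw) fun e => hn _ ⟨hD.conj y hy w hw, cj_mem hw' hy'⟩ ?_) (h2 ▸ o.symm)
  simpa [cj_sq (hD.sqr hw)] using e.symm.conj w

/-- A subgroup containing the product partners of an odd component contains everything. -/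
theorem oc_pc {Y : Subgroup G} (ha : a ∈ D ∩ Y) (hx : x ∈ D ∩ Y) (o : Od a x)
    (h : ∀ t ∈ Oc (D ∩ Y) a, ∀ c ∈ D, Commute t c → t * c ∈ D → c ∈ Y)
    (hb : ReflTransGen (ProdAdj D) a b) : b ∈ Oc (D ∩ Y) a := by
  induction hb with
  | refl => exact oc_self ha
  | @tail t b _ h1 ih =>
    have hD' := hD.inter Y
    obtain ⟨g, hg, e⟩ := hD'.oc_conj' ih.2
    have hy := hD'.cjm hg hx
    have o1 := e ▸ o.conj g
    have hb : b ∈ D ∩ Y := ⟨h1.2.1, h t ih b h1.2.1 h1.2.2.2.1 h1.2.2.2.2⟩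
    obtain ⟨z, hz, o2⟩ := hD.od_in ho h1.1 hy.1 hy.2 o1 hb.1 h1.2.2.2.1 h1.2.2.2.2 (h t ih)
    exact ⟨hb, ih.2.trans (hD'.oc_of_prod ih.1 hb h1.2.2.2.1 ⟨h1.2.2.2.2, mul_mem ih.1.2 hb.2⟩ hy o1 hz o2)⟩

end Rt

theorem econ_main [Finite G] (n : ℕ) : ∀ D : Set G, D.ncard ≤ n → Rt D →
    IsConnectedSet (OddAdj D) D → Nd D → IsConnectedSet (ProdAdj D) D := by
  induction n with
  | zero => exact fun D h _ _ _ d hd => absurd ((Set.ncard_pos).2 ⟨d, hd⟩) (by omega)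
  | succ n ih =>
    intro D hn hD ho h a ha
    have hc : IsConnectedSet (CommAdj D) D := by_contra fun e =>
      let ⟨_, ha, _, hb, h1⟩ := id h
      (hD.bt (hD.four_of_nd h) e).not_vp ha hb h1
    have key : ∀ a ∈ D, ∀ b, ReflTransGen (CommAdj D) a b → b ∈ Pc D a ∨ Commute a b := by
      intro a ha b hb
      have m : a ∈ Pc D a := ⟨ha, .refl⟩
      induction hb with
      | refl => exact Or.inl m
      | @tail c b _ h1 ih' =>
        by_contra! h2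
        have h3 : c ∉ Pc D a := fun e => h2.2 (hD.pc_comm e h1.2.1 h1.2.2.2 h2.1 m)
        have h4 := ih'.resolve_left h3
        have o := ((hD.tri ha h1.2.1).resolve_left h2.2).resolve_right fun e => h2.1 (hD.pc_vp m h1.2.1 e)
        have hD' := hD.inter (centralizer {c})
        have m1 := oc_self (mem_cz.2 ⟨ha, h4⟩)
        have h5 : ∀ t ∈ Pc D a, t ∈ Oc (D ∩ (centralizer {c} : Subgroup G)) a := fun t ht =>
          have e := fun s (hs : s ∈ Pc D a) => mem_cz.2 ⟨hs.1, hD.pc_comm m h1.1 h4 h3 hs⟩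
          ⟨e t ht, rtg_map id (fun _ _ h => .single ⟨e _ h.1, e _ h.2.1, h.2.2⟩) (hD.pc_ocon ho h a m t ht)⟩
        have h6 : ∀ s ∈ Oc (D ∩ (centralizer {c} : Subgroup G)) a, ∀ g ∈ closure (D ∩ (centralizer {c} :
            Subgroup G)), cj g s ∈ Oc (D ∩ (centralizer {c} : Subgroup G)) a := fun s hs g hg =>
          ⟨hD'.cjm hg hs.1, (hD'.oc_cj_self' m1.1 (mem_cz.2 ⟨h1.2.1, h1.2.2.2.symm⟩) o hg).trans
            (hD'.oc_cj hg hs.2)⟩
        have h7 : Rt (Oc (D ∩ (centralizer {c} : Subgroup G)) a) := hD.mono (fun _ h => h.1.1)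
          (fun s hs t ht => h6 s hs t (mem_cl ht.1)) fun s hs t ht e => by
            obtain ⟨g, hg, rfl⟩ := hD'.oc_conj' hs.2
            have hg' := inv_mem (closure_mono Set.inter_subset_left hg)
            have e1 := hD.cjm hg' ht.1.1
            have e2 : Vp a (cj g⁻¹ t) := by simpa using (vp_cj (g := g⁻¹)).2 e
            have := h6 _ (h5 _ (hD.pc_step m (hD.vp_mem ha e1 e2) e2.comm_left (hD.vp_left ha e1))) g hg
            rwa [cj_mul, cj_cj', cj_cj_inv] at this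
        obtain ⟨w, hw, h8⟩ := hD.vp_at ho h ha
        have m2 := hD'.oc_step m1 (mem_cz.2 ⟨h1.2.1, h1.2.2.2.symm⟩) o
        refine h2.1 ⟨h1.2.1, rtg_map id (fun _ _ h => .single ⟨h.1.1.1, h.2.1.1.1, h.2.2.1, h.2.2.2.1,
          h.2.2.2.2.1.1⟩) (ih _ (Nat.lt_succ_iff.1 (lt_of_lt_of_le (Set.ncard_lt_ncard
            ⟨fun _ h => h.1.1, fun e => ?_⟩ (Set.toFinite D)) hn)) h7 Rt.oc_ocon
            ⟨a, m1, w, h5 w (hD.pc_vp m hw h8), h8⟩ a m1 b m2)⟩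
        obtain ⟨y, hy, h9⟩ := hD'.exists_od (hD'.oc_symm (e h1.1).2) fun e => h3 (e ▸ m)
        exact h9.1 (mem_cz.1 hy).2.symm
    intro b hb
    refine rtg_map id (fun s t e => ?_) (ho a ha b hb)
    obtain ⟨hs, ht, o⟩ := hD.oddAdj.1 e
    exact ((key s hs t (hc s hs t ht)).resolve_right o.1).2

theorem Rt.econ [Finite G] (hD : Rt D) (ho : IsConnectedSet (OddAdj D) D) (h : Nd D) :
    IsConnectedSet (ProdAdj D) D := econ_main _ D le_rfl hD ho h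

theorem nd_of (hD : IsNondegenerateRootInvolutionSet D) (hcl : IsRootInvolutionClass D) :
    Rt D ∧ IsConnectedSet (OddAdj D) D ∧ Nd D := by
  have h := rt_of hD.1
  obtain ⟨-, -, ⟨a, ha, x, hx, h1, h2⟩, b, hb, w, hw, h3⟩ := hD
  exact ⟨h, h.ocon_of_class hcl.1.generates hcl.2.2 ha hx (od_of_ne (h.sqr ha) (h.sqr hx) h1 h2),
    b, hb, w, hw, vp_of_ord (h.sqr hb) (h.sqr hw) h3⟩

namespace Rt

variable [Finite G] (hD : Rt D) (ho : IsConnectedSet (OddAdj D) D) (h : Nd D)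
include hD ho h

theorem wti (hT : IsWeakTISubsetOfElements D T) (ha : a ∈ T) (hb : b ∈ T) : Commute a b := by
  obtain ⟨h1, -, h2, h3⟩ := hT
  have nz : ∀ d ∈ D, ∀ t ∈ T, Commute t d → d ∈ normalizer T := fun d hd t ht c =>
    mem_normalizer_fintype fun s hs => ((h3 d hd).resolve_right fun e =>
      Set.disjoint_left.1 e ⟨t, ht, cj_of_comm c.symm⟩ ht).le ⟨s, hs, rfl⟩
  have key : ∀ a ∈ T, ∀ x ∈ D ∩ normalizer T, ¬ Od a x := fun a ha x hx o => h2 (h1.antisymm fun b hb => by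
    have m : ∀ t ∈ Oc (D ∩ normalizer T) a, t ∈ T := fun t ht => by
      obtain ⟨g, hg, rfl⟩ := (hD.inter _).oc_conj' ht.2
      exact nz_cj ((closure_le _).2 Set.inter_subset_right hg) ha
    exact m b (hD.oc_pc ho ⟨h1 ha, nz a (h1 ha) a ha (Commute.refl a)⟩ hx o
      (fun t ht c hc e _ => nz c hc t (m t ht) e) (hD.econ ho h a (h1 ha) b hb)))
  rcases hD.tri (h1 ha) (h1 hb) with e | e | e
  · exact e
  · exact (key a ha b ⟨h1 hb, nz b (h1 hb) b hb (Commute.refl b)⟩ e).elim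
  · obtain ⟨x, hx, -, c, e1⟩ := hD.vp_s3 ho (h1 ha) (h1 hb) e
    exact (key a ha x ⟨hx, nz x hx b hb c.symm⟩ (od_of_three (hD.sqr (h1 ha)) (hD.sqr hx) e1)).elim

theorem xp_gen {Y : Subgroup G} (hd : d ∈ D) (hx : x ∈ D) (o : Od d x) (hx' : x ∈ Y)
    (hY : ∀ c ∈ D, Commute d c → d * c ∈ D → c ∈ Y) : closure D ≤ Y := by
  obtain ⟨b, hb, c, m⟩ := hD.four_at ho (hD.four_of_nd h) hd
  have hd' : d ∈ Y := by
    have := mul_mem (hY _ m ((Commute.refl d).mul_right c) (by rwa [cancel2 (hD.sqr hd)])) (hY b hb c m)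
    rwa [mul_assoc, hD.sqr hb, mul_one] at this
  refine (closure_le _).2 fun e he => (hD.oc_pc ho ⟨hd, hd'⟩ ⟨hx, hx'⟩ o (fun t ht c hc e1 e2 => ?_)
    (hD.econ ho h d hd e he)).1.2
  obtain ⟨g, hg, rfl⟩ := (hD.inter _).oc_conj' ht.2
  have h1 := inv_mem (closure_mono Set.inter_subset_left hg)
  have h2 := (closure_le _).2 Set.inter_subset_right hg
  simpa using cj_mem h2 (hY _ (hD.cjm h1 hc) (commute_cj_left.1 e1)
    (by simpa [cj_mul] using hD.cjm h1 e2))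

end Rt

end Cfsg.Lib.RI
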