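import Cfsg.Agent.Lib.RI.Gen

/-!
# Odd transpositions: `⟨E_d, x⟩ / O₂`.  See `docs/RI.md`.
-/

set_option autoImplicit false

namespace Cfsg.Lib.RI

open Subgroup Cfsg.Lib.Inv Cfsg.Lib.Core Relation

variable {G : Type*} [Group G] {D B : Set G} {a b c d e e' f g j k u x y z : G}

/-- The class of `x` in `⟨x, B⟩`. -/
def Xs (D B : Set G) (x : G) : Set G := Oc (D ∩ closure (insert x B)) x

theorem xs_sub : Xs D B x ⊆ D := fun _ h => h.1.1
theorem xs_le : closure (Xs D B x) ≤ closure (insert x B) := (closure_le _).2 fun _ h => h.1.2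
theorem xs_self (hx : x ∈ D) : x ∈ Xs D B x := oc_self ⟨hx, mem_cl (Or.inl rfl)⟩
theorem xs_ocon : IsConnectedSet (OddAdj (Xs D B x)) (Xs D B x) := Rt.oc_ocon

namespace Rt

variable (hD : Rt D)
include hD

theorem xs_rt (hd : Deg D) : Rt (Xs D B x) := (hD.inter _).oc_rt (hd.mono Set.inter_subset_left)

theorem xs_mem (hx : x ∈ D) (hb : b ∈ D) (h : b ∈ closure (insert x B)) (o : Od x b) :
    b ∈ Xs D B x := (hD.inter _).oc_step (xs_self hx) ⟨hb, h⟩ o

theorem xs_cl (hx : x ∈ D) (hB : ∀ b ∈ B, b ∈ D ∧ Od x b) :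
    closure (Xs D B x) = closure (insert x B) := xs_le.antisymm ((closure_le _).2 (by
  rintro s (rfl | hs)
  exacts [mem_cl (xs_self hx), mem_cl (hD.xs_mem hx (hB s hs).1 (mem_cl (Or.inr hs)) (hB s hs).2)]))

theorem od_of_ocon (ho : IsConnectedSet (OddAdj D) D) (ha : a ∈ D) (hx : x ∈ D) (h : a ≠ x)
    (hy : y ∈ D) : ∃ w ∈ D, Od y w := by
  by_cases e : a = y
  · exact hD.exists_od (ho y hy x hx) (e ▸ h.symm)
  · exact hD.exists_od (ho y hy a ha) e

theorem es_od (hd' : d ∈ D) (hx : x ∈ D) (o : Od d x) : ∀ e ∈ Es D d, e ∈ D ∧ Od x e :=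
  fun _ he => ⟨he.1, hD.od_of_ec hx he.1 he.2 o.symm hd'⟩

omit hD in
theorem es_comm (he : e ∈ Es D d) (he' : e' ∈ Es D d) : Commute e e' :=
  (he.2.symm.trans he'.2).comm he.1

theorem es_cj (hg : g ∈ closure D) (h : Ec D d (cj g d)) (he : e ∈ Es D d) : cj g e ∈ Es D d :=
  ⟨hD.cjm hg he.1, h.trans (hD.ec_cj hg he.2)⟩

variable (hd : Deg D)
include hd

theorem ec_mul (he : e ∈ Es D d) (he' : e' ∈ Es D d) (hne : e ≠ e') : Ec D d (e * e') :=
  fun y hy => ⟨fun h => ((he.2 y hy).1 h).mul_right ((he'.2 y hy).1 h),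
    fun h => (he.2 y hy).2 (hD.comm_of_mul hd hy he.1 he'.1 (es_comm he he') hne h)⟩

/-- The products of two members of `E_d` not moving `x` far. -/
theorem n1_step (hx : x ∈ D) (he : e ∈ Es D d) (he' : e' ∈ Es D d) (hk : k = e * e')
    (h : Commute x (cj k x)) (hf : f ∈ Es D d) : cj (x * cj k x) f ∈ Es D d ∧
      Commute x (cj (cj (x * cj k x) f * f) x) := by
  have sx := hD.sqr hx
  have sf := hD.sqr hf.1
  have hk' : k ∈ closure D := hk ▸ mul_mem (mem_cl he.1) (mem_cl he'.1)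
  have sk : k * k = 1 := hk ▸ mul_sq_of_comm (hD.sqr he.1) (hD.sqr he'.1) (es_comm he he')
  have hx' := hD.cjm hk' hx
  have hκ : x * cj k x ∈ closure D := mul_mem (mem_cl hx) (mem_cl hx')
  have sκ := mul_sq_of_comm sx (hD.sqr hx') h
  have c1 : Commute (x * cj k x) x := (Commute.refl x).mul_left h.symm
  have c2 : Commute k (x * cj k x) := cj_eq_iff.1 (by rw [cj_mul, cj_sq sk, h.eq])
  have c3 : Commute f k := hk ▸ (es_comm hf he).mul_right (es_comm hf he')
  by_cases h0 : x = cj k x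
  · rw [← h0, sx, one_cj, sf, one_cj]; exact ⟨hf, Commute.refl x⟩
  have hne : e ≠ e' := fun e1 => h0 (by rw [hk, e1, hD.sqr he'.1, one_cj])
  have h1 : Ec D f k := hf.2.symm.trans (hk ▸ hD.ec_mul hd he he' hne)
  have h2 := hD.ec_cj hκ h1
  rw [cj_of_comm c2.symm] at h2
  have h3 : cj (x * cj k x) f ∈ Es D d := ⟨hD.cjm hκ hf.1, hf.2.trans (h1.trans h2.symm)⟩
  refine ⟨h3, ?_⟩
  have hy := hD.conj x hx f hf.1
  have h4 : cj f (x * cj k x) = cj f x * cj k (cj f x) := by rw [cj_mul, cj_cj', cj_of_comm c3]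
  have h5 : Commute (cj f x) (cj k (cj f x)) := by
    have := Commute_cj f h
    rwa [cj_cj', cj_of_comm c3] at this
  have h6 : cj f x ≠ cj k (cj f x) := fun e1 => h0 (by
    rw [← cj_inj (g := f), cj_cj' f k, cj_of_comm c3]; exact e1)
  generalize x * cj k x = κ at *
  have h7 : Commute κ (cj f κ) := comm_of_mul_sq sκ (cj_mul_self sκ f) (by
    have : κ * cj f κ = cj κ f * f := by rw [cj_inv_inv sf, cj_inv_inv sκ]; simp only [mul_assoc]
    rw [this]
    exact mul_sq_of_comm (hD.sqr h3.1) sf (es_comm h3 hf))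
  have h8 := hD.comm_of_mul hd (hD.cjm hκ hy) hy (hD.cjm hk' hy) h5 h6 (by
    rw [← h4, ← cj_of_comm h7, h4, cj_mul]
    exact (Commute.refl _).mul_right (Commute_cj κ h5))
  have h9 := Commute_cj (κ * f) h8.symm
  rwa [← cj_cj, cj_sq sf, cj_of_comm c1, cj_cj, cj_cj, show κ * f * κ * f = cj κ f * f by
    rw [cj_inv_inv sκ]] at h9

theorem n1_core [Finite G] (hx : x ∈ D) (he : e ∈ Es D d) (he' : e' ∈ Es D d)
    (h : Commute x (cj (e * e') x)) : e * e' ∈ (pCore 2 (closure (insert x (Es D d)))).map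
      (closure (insert x (Es D d))).subtype := by
  set N : Set G := {k | ∃ e ∈ Es D d, ∃ e' ∈ Es D d, k = e * e' ∧ Commute x (cj k x)}
  have sx := hD.sqr hx
  have hN : ∀ k ∈ N, k ∈ closure (Es D d) := by
    rintro _ ⟨e, he, e', he', rfl, -⟩; exact mul_mem (mem_cl he) (mem_cl he')
  have hc : ∀ f ∈ Es D d, ∀ k ∈ closure (Es D d), Commute f k :=
    fun f hf k hk => comm_closure (fun _ h => es_comm hf h) hk
  have sN : ∀ k ∈ N, k * k = 1 := by
    rintro _ ⟨e, he, e', he', rfl, -⟩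
    exact mul_sq_of_comm (hD.sqr he.1) (hD.sqr he'.1) (es_comm he he')
  refine le_pCoreOf (K := closure (N ∪ cj x '' N)) ((closure_le _).2 ?_) ((closure_le _).2 ?_) ?_
    (mem_cl (Or.inl ⟨e, he, e', he', rfl, h⟩))
  · rintro k (hk | ⟨k, hk, rfl⟩)
    · exact closure_mono (Set.subset_insert ..) (hN k hk)
    · exact cj_mem (mem_cl (Or.inl rfl)) (closure_mono (Set.subset_insert ..) (hN k hk))
  · rintro f (rfl | hf)
    · refine mem_nz_closure ?_
      rintro k (hk | ⟨k, hk, rfl⟩)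
      · exact mem_cl (Or.inr ⟨k, hk, rfl⟩)
      · rw [cj_sq sx]; exact mem_cl (Or.inl hk)
    · refine mem_nz_closure ?_
      rintro k (hk | ⟨k, hk, rfl⟩)
      · rw [cj_of_comm (hc f hf k (hN k hk))]; exact mem_cl (Or.inl hk)
      · obtain ⟨e, he, e', he', h1, h2⟩ := id hk
        obtain ⟨h3, h4⟩ := hD.n1_step hd hx he he' h1 h2 hf
        have h5 : cj f (cj x k) = cj x k * (cj (x * cj k x) f * f) := by
          have h6 := (hc _ h3 k (hN k hk)).mul_left (hc f hf k (hN k hk))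
          have h7 : cj x k = x * cj k x * k := by
            rw [mul_cj_comm sx (sN k hk), mul_assoc, sN k hk, mul_one]
          have sκ := mul_sq_of_comm sx (cj_mul_self sx k) h2
          rw [h7, mul_assoc _ k, ← h6.eq, cj_mul, cj_of_comm (hc f hf k (hN k hk))]
          generalize x * cj k x = κ at *
          rw [cj_inv_inv sκ, cj_inv_inv (hD.sqr hf.1)]
          simp only [mul_assoc, cancel2 sκ]
        rw [h5]
        exact mul_mem (mem_cl (Or.inr ⟨k, hk, rfl⟩)) (mem_cl (Or.inl ⟨_, h3, f, hf, rfl, h4⟩))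
  · refine IsPGroup.to_le (IsPGroup.to_sup_of_normal_left' (H := closure (Es D d))
      (K := closure (cj x '' N)) (isPGroup_closure_comm (fun s h => hD.sqr h.1) fun s h t h' =>
        es_comm h h') (isPGroup_closure_comm ?_ ?_) ((closure_le _).2 ?_)) ((closure_le _).2 ?_)
    · rintro _ ⟨k, hk, rfl⟩; exact cj_mul_self (sN k hk) x
    · rintro _ ⟨k, hk, rfl⟩ _ ⟨l, hl, rfl⟩
      exact Commute_cj x (comm_closure (fun f hf => (hc f hf k (hN k hk)).symm) (hN l hl))
    · rintro _ ⟨k, hk, rfl⟩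
      obtain ⟨e, he, e', he', h1, h2⟩ := id hk
      refine mem_nz_closure fun f hf => ?_
      rw [show cj x k = x * cj k x * k by rw [mul_cj_comm sx (sN k hk), mul_assoc, sN k hk, mul_one],
        ← cj_cj, cj_of_comm (hc f hf k (hN k hk)).symm]
      exact mem_cl (hD.n1_step hd hx he he' h1 h2 hf).1
    · rintro k (hk | hk)
      exacts [mem_sup_left (hN k hk), mem_sup_right (mem_cl hk)]

theorem n1_other [Finite G] (hx : x ∈ D) (he : e ∈ Es D d) (he' : e' ∈ Es D d)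
    (h : ¬ Commute x (cj (e * e') x)) : ∃ y ∈ Xs D (Es D d) x, y * (e * e') ∈
      (pCore 2 (closure (insert x (Es D d)))).map (closure (insert x (Es D d))).subtype := by
  have hk : e * e' ∈ closure (insert x (Es D d)) := mul_mem (mem_cl (Or.inr he)) (mem_cl (Or.inr he'))
  have hk' : e * e' ∈ closure D := mul_mem (mem_cl he.1) (mem_cl he'.1)
  have sk := mul_sq_of_comm (hD.sqr he.1) (hD.sqr he'.1) (es_comm he he')
  obtain ⟨g, hg, h1, h2, h3⟩ := dih (hD.sqr hx) sk (hD.od_of hd hx (hD.cjm hk' hx) h).2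
  have hy := hD.cjm (pair_le (mem_cl hx) hk' hg) hx
  have hx' := mem_cl (Set.mem_insert x (Es D d))
  have hy' := cj_mem (pair_le hx' hk hg) hx'
  have hne : e ≠ e' := fun e1 => h (by rw [e1, hD.sqr he'.1, one_cj])
  have h4 := (hD.ec_mul hd he he' hne _ hy).2 h1
  refine ⟨_, hD.xs_mem hx hy hy' (od_of_ne (hD.sqr hx) (hD.sqr hy) (fun e1 => h ?_) h3),
    le_pCoreOf (K := closure {cj g x * (e * e')}) ((closure_le _).2 ?_) ((closure_le _).2 ?_)
      (isPGroup_closure_comm ?_ ?_) (mem_cl rfl)⟩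
  · rw [← e1] at h1; rw [cj_of_comm h1.symm]
  · rintro _ rfl; exact mul_mem hy' hk
  · intro f hf
    refine mem_nz_closure ?_
    rintro _ rfl
    refine mem_cl (cj_of_comm ?_)
    rcases hf with rfl | hf
    · exact h2
    · exact ((hf.2 _ hy).1 h4).symm.mul_right ((es_comm hf he).mul_right (es_comm hf he'))
  · rintro _ rfl; exact mul_sq_of_comm (hD.sqr hy) sk h1
  · rintro _ rfl _ rfl; rfl

theorem gen_main [Finite G] (hd' : d ∈ D) (hx : x ∈ D) (o : Od d x) :
    Gen (closure (insert x (Es D d)) ⧸ pCore 2 (closure (insert x (Es D d)))) := by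
  have h1 := hD.es_od hd' hx o
  have hr := hD.xs_rt (B := Es D d) (x := x) hd
  have m : ∀ e ∈ Es D d, e ∈ Xs D (Es D d) x := fun e he =>
    hD.xs_mem hx he.1 (mem_cl (Or.inr he)) (h1 e he).2
  have key : ∀ k : closure (insert x (Es D d)), k.1 ∈ (pCore 2 (closure (insert x (Es D d)))).map
      (closure (insert x (Es D d))).subtype → k ∈ pCore 2 _ := by
    rintro k ⟨l, hl, e⟩; exact (Subtype.ext e : l = k) ▸ hl
  have od : ∀ a b : closure (insert x (Es D d)), Od a.1 b.1 → Od a b := fun a b h =>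
    ⟨fun e => h.1 (e.map (Subgroup.subtype _)), by rw [← Subgroup.orderOf_coe]; exact h.2⟩
  refine (hr.sub _).gen_quot ((hd.mono xs_sub).sub _) (closure_sub' (hD.xs_cl hx h1)) (fun y hy => ?_)
    (x := ⟨x, mem_cl (Or.inl rfl)⟩) (xs_self hx) (a := ⟨d, mem_cl (Or.inr (self_es hd'))⟩)
    (T := (Subgroup.subtype _) ⁻¹' Es D d) (self_es hd') (od _ _ o) (fun e he => m e he) ?_
    (fun z hz h e he => Subtype.ext ((he.2 _ (xs_sub hz)).1 (h.map (Subgroup.subtype _))).eq)
    fun e he => ?_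
  · obtain ⟨w, hw, h⟩ := hr.od_of_ocon xs_ocon (m d (self_es hd')) (xs_self hx) o.ne hy
    exact ⟨⟨w, xs_le (mem_cl hw)⟩, hw, od _ _ h⟩
  · refine eq_top_iff.2 ((closure_sub _).ge.trans (closure_mono ?_))
    rintro s (hs | hs)
    exacts [Or.inl (Subtype.ext hs), Or.inr hs]
  · by_cases h : Commute x (cj (e.1 * d) x)
    · exact Or.inl (key _ (hD.n1_core hd hx he (self_es hd') h))
    · obtain ⟨y, hy, h⟩ := hD.n1_other hd hx he (self_es hd') h
      exact Or.inr ⟨⟨y, xs_le (mem_cl hy)⟩, hy, key _ h⟩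

end Rt

end Cfsg.Lib.RI
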