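import Cfsg.Agent.Lib.RI.Cls

/-!
# Moufang lines with elementary abelian root groups.  See `docs/RI.md`.
-/

set_option autoImplicit false

namespace Cfsg.Lib.RI

open Subgroup Cfsg.Lib.Inv Cfsg.Lib.BS MulAction
open scoped commutatorElement

section
variable {N Ω : Type*} [Group N] [Finite N] [MulAction N Ω] [FaithfulSMul N Ω] {U : Subgroup N}
  {a b : Ω} (h1 : ∀ z ∈ U, z • a = a) (h2 : ∀ z ∈ U, z * z = 1)
  (h3 : ∀ p q, p ≠ a → q ≠ a → ∃ z ∈ U, z • p = q) (h4 : ∀ g, g • a = a → ∀ z ∈ U, cj g z ∈ U)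
include h1 h2 h3

omit [Finite N] in
theorem mf_reg {z : N} (hz : z ∈ U) {p : Ω} (hp : p ≠ a) (e : z • p = p) : z = 1 :=
  eq_of_smul_eq_smul fun q : Ω => by
    rw [one_smul]
    by_cases hq : q = a
    · rw [hq, h1 z hz]
    obtain ⟨w, hw, rfl⟩ := h3 p q hp hq
    rw [← mul_smul, (comm_of_mul_sq (h2 z hz) (h2 w hw) (h2 _ (mul_mem hz hw))).eq, mul_smul, e]

include h4

omit [Finite N] in
theorem mf_pd : ZD.PD (Group.conjugatesOfSet {z | z ∈ U ∧ z ≠ 1}) Ω := by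
  have key : ∀ y ∈ U, y ≠ 1 → ∀ (g : N) (p : Ω), cj g y • p = p ↔ p = g • a := fun y hy h g p => by
    rw [← inv_smul_eq_iff, cj, mul_smul, mul_smul, smul_eq_iff_eq_inv_smul g]
    exact ⟨fun e => by_contra fun e' => h (mf_reg h1 h2 h3 hy e' e), fun e => e ▸ h1 y hy⟩
  refine ⟨fun z hz => ?_, fun z hz g => Group.conj_mem_conjugatesOfSet hz, fun z hz => ?_,
    fun z hz z' hz' hne hc => ?_⟩
  · obtain ⟨y, hy, g, rfl⟩ := ZD.mem_cjs.1 hz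
    exact (orderOf_cj g y).trans (orderOf_eq_prime (by rw [sq, h2 y hy.1]) hy.2)
  · obtain ⟨y, hy, g, rfl⟩ := ZD.mem_cjs.1 hz
    exact ⟨g • a, (key y hy.1 hy.2 g _).2 rfl, fun p hp => (key y hy.1 hy.2 g p).1 hp⟩
  · obtain ⟨y, hy, g, rfl⟩ := ZD.mem_cjs.1 hz
    obtain ⟨y', hy', g', rfl⟩ := ZD.mem_cjs.1 hz'
    have e1 := (key y hy.1 hy.2 g (cj g' y' • g • a)).1 (by
      rw [← mul_smul, show cj g y * cj g' y' = cj g' y' * cj g y from hc, mul_smul,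
        (key y hy.1 hy.2 g _).2 rfl])
    have e2 := h4 (g⁻¹ * g') (by rw [mul_smul, ← (key y' hy'.1 hy'.2 g' _).1 e1, inv_smul_smul]) y' hy'.1
    refine ZD.mem_cjs.2 ⟨_, ⟨mul_mem hy.1 e2, fun e => hne ?_⟩, g, ?_⟩
    · rw [eq_of_mul_eq_one' (h2 _ e2) e]; simp [cj, mul_assoc]
    · simp [cj, mul_assoc]

theorem moufang (hb : b ≠ a) (h5 : ∃ g : N, g • a = b) {k l g : N} (ka : k • a = a) (kb : k • b = b)
    (la : l • a = a) (lb : l • b = b) (hg : g ∈ zpowers ⁅k, l⁆) (t2 : Two g) : g = 1 := by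
  by_contra hg1
  have fx : ∀ {k l g : N} {p : Ω}, k • p = p → l • p = p → g ∈ zpowers ⁅k, l⁆ → g • p = p :=
    fun {k l g p} e1 e2 h => (zpowers_le (H := stabilizer N p)).2
      (mul_mem (mul_mem (mul_mem e1 e2) (inv_mem e1)) (inv_mem e2)) h
  obtain ⟨c, hc⟩ : ∃ c : Ω, g • c ≠ c := by
    by_contra! h; exact hg1 (eq_of_smul_eq_smul fun q : Ω => by rw [h, one_smul])
  have ga := fx ka la hg
  have gb := fx kb lb hg
  obtain ⟨z₁, hz₁, e₁⟩ := h3 b c hb fun e => hc (e ▸ ga)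
  obtain ⟨z₂, hz₂, e₂⟩ := h3 b (g • c) hb fun e => hc (by
    rw [← ga, smul_left_cancel_iff] at e; rw [e, ga])
  have n₁ : z₁ ≠ 1 := fun e => hc (by rw [← e₁, e, one_smul, gb])
  have n₂ : z₂ ≠ 1 := fun e => hc (by
    rw [e, one_smul, ← gb, smul_left_cancel_iff] at e₂; rw [← e₂, gb])
  have hP := mf_pd h1 h2 h3 h4
  set Z := Group.conjugatesOfSet {z | z ∈ U ∧ z ≠ 1}
  have hU : U ≤ closure Z := fun z hz => by
    by_cases e : z = 1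
    exacts [e ▸ one_mem _, mem_cl (Group.subset_conjugatesOfSet ⟨hz, e⟩)]
  have hL : (closure Z).Normal := hP.wpd.closure_normal
  have : Nontrivial Ω := ⟨⟨b, a, hb⟩⟩
  have hse := hP.se (fun p => by
    obtain ⟨n, rfl⟩ : ∃ n : N, n • a = p := by
      by_cases e : p = a
      · exact ⟨1, by rw [e, one_smul]⟩
      obtain ⟨n, rfl⟩ := h5
      obtain ⟨w, -, e⟩ := h3 _ p hb e
      exact ⟨w * n, by rw [mul_smul, e]⟩
    exact ⟨_, ZD.mem_cjs.2 ⟨z₁, ⟨hz₁, n₁⟩, n, rfl⟩, by simp [mul_smul, h1 z₁ hz₁]⟩) a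
  obtain ⟨E, t, hR⟩ := exists_ro_of_regular (Q := U.subgroupOf (closure Z)) hse (fun z hz => h1 z hz)
    (fun n hn => mem_normalizer_fintype fun z hz => h4 n hn z hz) (fun g₁ g₂ e1 e2 => by
      obtain ⟨w, hw, e⟩ := h3 (g₁.1 • a) (g₂.1 • a) e1 e2
      exact ⟨⟨w, hU hw⟩, hw, by
        change (g₂.1⁻¹ * (w * g₁.1)) • a = a
        rw [mul_smul, mul_smul, e, inv_smul_smul]⟩)
    fun n hn w hw e => Subtype.ext (mf_reg h1 h2 h3 hw hn (by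
      change (n.1⁻¹ * (w.1 * n.1)) • a = a at e
      rwa [mul_smul, mul_smul, inv_smul_eq_iff] at e))
  obtain ⟨Q₀, K, s, r, hR⟩ := hR.exists_RS ⟨⟨z₁, hU hz₁⟩, ⟨z₂, hU hz₂⟩, fun e => n₁ (congrArg Subtype.val e),
    fun e => n₂ (congrArg Subtype.val e), fun e => hc (by
      rw [← e₂, ← e₁, show z₁ = z₂ from congrArg Subtype.val e]), Subtype.ext (h2 _ hz₁),
    Subtype.ext (h2 _ hz₂), Subtype.ext (comm_of_mul_sq (h2 _ hz₁) (h2 _ hz₂) (h2 _ (mul_mem hz₁ hz₂)))⟩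
  have tt : t.1 * t.1 = 1 := congrArg Subtype.val hR.tt
  obtain ⟨z, hz, hzb⟩ := h3 b (t.1 • a) hb hR.tH
  have mK : ∀ m : closure Z, m.1 • a = a → cj t.1 m.1 = m.1⁻¹ → m ∈ K := fun m e1 e2 =>
    (hR.memK m).2 ⟨hR.mem_D_of_inverted e1 (Subtype.ext e2), Subtype.ext e2⟩
  obtain ⟨⟨k₀, hk₀⟩, hgen⟩ := hR.cyc.exists_generator
  have hK : ∀ m ∈ K, ∃ i : ℤ, k₀.1 ^ i = m.1 := fun m hm =>
    let ⟨i, hi⟩ := hgen ⟨m, hm⟩
    ⟨i, congrArg (fun x : K => x.1.1) hi⟩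
  have key : ∀ n : N, n • a = a → n • t.1 • a = t.1 • a → ∃ i : ℤ, k₀.1 ^ i = cj n k₀.1 := by
    intro n e1 e2
    have e3 := mK (⟨cj n⁻¹ t.1, cj_mem_normal _ t.2⟩ * t) (by
      change (n⁻¹ * t.1 * n⁻¹⁻¹ * t.1) • a = a
      rw [inv_inv, mul_smul, mul_smul, e2, mul_smul, ← mul_smul t.1, tt, one_smul, inv_smul_eq_iff, e1])
      (by
        change cj t.1 (cj n⁻¹ t.1 * t.1) = (cj n⁻¹ t.1 * t.1)⁻¹
        rw [mul_inv_rev, inv_eq_of_mul_self (cj_mul_self tt _), inv_eq_of_mul_self tt, cj_inv_inv tt,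
          mul_assoc, mul_assoc, tt, mul_one])
    have e4 : cj n⁻¹ t.1 * t.1 * k₀.1⁻¹ = k₀.1⁻¹ * (cj n⁻¹ t.1 * t.1) :=
      congrArg Subtype.val (hR.K_comm e3 (inv_mem hk₀))
    have e5 : cj t.1 k₀.1 = k₀.1⁻¹ := congrArg Subtype.val (hR.K_inv hk₀)
    have e6 := cj_of_comm e4
    rw [← cj_cj, cj_inv, e5, inv_inv] at e6
    refine hK _ (mK ⟨cj n k₀.1, cj_mem_normal _ k₀.2⟩ ?_ ?_)
    · have : k₀.1 • a = a := hR.K_le_H hk₀
      change cj n k₀.1 • a = a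
      rw [cj, mul_smul, mul_smul, inv_smul_eq_iff.2 e1.symm, this, e1]
    · change cj t.1 (cj n k₀.1) = (cj n k₀.1)⁻¹
      rw [← cj_inv, ← e6, cj_cj' n, cj_cj_inv]
  have fa : ∀ n : N, n • a = a → (cj z n) • a = a := fun n e => by
    rw [cj, mul_smul, mul_smul, h1 _ (inv_mem hz), e, h1 z hz]
  have fb : ∀ n : N, n • b = b → (cj z n) • t.1 • a = t.1 • a := fun n e => by
    rw [← hzb, cj, mul_smul, mul_smul, inv_smul_smul, e]
  obtain ⟨i, hi⟩ := key _ (fa k⁻¹ (inv_smul_eq_iff.2 ka.symm)) (fb k⁻¹ (inv_smul_eq_iff.2 kb.symm))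
  obtain ⟨j, hj⟩ := key _ (fa l⁻¹ (inv_smul_eq_iff.2 la.symm)) (fb l⁻¹ (inv_smul_eq_iff.2 lb.symm))
  have zp : ∀ (n x : N) (i : ℤ), cj n (x ^ i) = cj n x ^ i := fun n x i => (conj_zpow).symm
  have e7 : cj (cj z k⁻¹) (cj (cj z l⁻¹) k₀.1) = cj (cj z l⁻¹) (cj (cj z k⁻¹) k₀.1) := by
    rw [← hi, ← hj, zp, zp, ← hi, ← hj, ← zpow_mul, ← zpow_mul, mul_comm]
  have e8 : Commute (cj z g) k₀.1 := by
    obtain ⟨m, rfl⟩ := hg
    rw [zp]
    refine Commute.zpow_left (cj_eq_iff.1 ?_) m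
    rw [commutatorElement_def, mul_assoc, cj_mul z (k * l), cj_mul z k⁻¹, ← cj_cj, ← cj_cj, e7, cj_cj,
      cj_cj, ← cj_mul, ← cj_mul]
    simp
  obtain ⟨w, hw, e9, e10⟩ := PGroup.exists_mem_centralizer_orderOf_eq (p := 2) (N := U)
    (P := zpowers (cj z g)) (Core.isPGroup_subgroup_iff.2 fun x hx => two_of_sq (h2 x hx))
    (Core.isPGroup_subgroup_iff.2 (by
      rintro _ ⟨m, rfl⟩
      obtain ⟨n, hn⟩ := t2.conj z
      exact ⟨n, by rw [← zpow_natCast, ← zpow_mul, mul_comm, zpow_mul, zpow_natCast, hn, one_zpow]⟩))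
    (zpowers_le.2 (mem_normalizer_fintype fun x hx => h4 _ (fa g ga) x hx))
    fun e => n₁ (mem_bot.1 (e ▸ hz₁))
  refine hg1 (cj_eq_one.1 (eq_of_smul_eq_smul (m₁ := cj z g) fun p : Ω => ?_))
  rw [one_smul]
  by_cases hp : p = a
  · rw [hp, fa g ga]
  obtain ⟨y, hy, rfl⟩ := h3 (t.1 • a) p hR.tH hp
  by_cases hy1 : y = 1
  · rw [hy1, one_smul, fb g gb]
  have m0 : ∀ y (hy : y ∈ U), (⟨y, hU hy⟩ : closure Z) ∈ Q₀ := fun y hy =>
    (hR.memQ0 _).2 ⟨h1 y hy, Subtype.ext (h2 y hy)⟩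
  obtain ⟨m, hm, e⟩ := hR.exists_k' (m0 w hw) (fun e => by
    rw [show w = 1 from congrArg Subtype.val e, orderOf_one] at e10; omega) (m0 y hy)
    fun e => hy1 (congrArg Subtype.val e)
  have e11 : m.1⁻¹ • t.1 • a = t.1 • a := by
    have e12 : m.1 • a = a := hR.K_le_H hm
    have e13 : t.1 * m.1 = m.1⁻¹ * t.1 := congrArg Subtype.val (hR.t_mul_of_inverted (hR.K_inv hm))
    rw [← mul_smul, ← e13, mul_smul, e12]
  obtain ⟨i, hi⟩ := hK m hm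
  rw [← show m.1 * w * m.1⁻¹ = y from congrArg Subtype.val e, mul_smul, mul_smul, e11, ← mul_smul,
    (hi ▸ e8.zpow_right i : Commute (cj z g) m.1).eq, mul_smul, ← mul_smul _ w, e9 _ (mem_zpowers _),
    mul_smul, fb g gb]

end

theorem mouf_rel {G : Type*} [Group G] [Finite G] {r : G → G → Prop} (hr : Equivalence r)
    (hc : ∀ g a b, r a b → r (cj g a) (cj g b)) {L I : Set G} {a b : G} (ha : a ∈ L) (hb : b ∈ L)
    (hab : ¬ r b a) (hI : ∀ z ∈ I, z ∈ normalizer L ∧ r (cj z a) a ∧ z * z = 1)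
    (h2 : ∀ z ∈ I, ∀ w ∈ I, ∀ p ∈ L, r (cj (z * w) p) (cj (w * z) p))
    (h3 : ∀ p ∈ L, ∀ q ∈ L, ¬ r p a → ¬ r q a → ∃ z ∈ I, r (cj z p) q)
    (h4 : ∀ g ∈ normalizer L, r (cj g a) a → ∀ z ∈ I, cj g z ∈ I)
    (h5 : ∃ g ∈ normalizer L, r (cj g a) b) {k l g : G} (hk : k ∈ normalizer L)
    (hl : l ∈ normalizer L) (ka : r (cj k a) a) (kb : r (cj k b) b) (la : r (cj l a) a)
    (lb : r (cj l b) b) (hg : g ∈ zpowers ⁅k, l⁆) (t2 : Two g) {p : G} (hp : p ∈ L) :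
    r (cj g p) p := by
  let s : Setoid L := ⟨fun p q => r p q, fun _ => hr.refl _, hr.symm, hr.trans⟩
  letI : MulAction (normalizer L) (Quotient s) :=
    { smul := fun n => Quotient.map' (fun p => ⟨cj n p, nz_cj n.2 p.2⟩) fun _ _ h => hc _ _ _ h
      one_smul := fun p => Quotient.inductionOn' p fun p => congrArg Quotient.mk'' (Subtype.ext (one_cj _))
      mul_smul := fun m n p => Quotient.inductionOn' p fun p =>
        congrArg Quotient.mk'' (Subtype.ext (cj_cj ..).symm) }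
  let π := (toPermHom (normalizer L) (Quotient s)).rangeRestrict
  have e : ∀ (n : normalizer L) (p q : L),
      π n • (Quotient.mk'' p : Quotient s) = Quotient.mk'' q ↔ r (cj n p) q := fun n p q => Quotient.eq''
  have hπ : Function.Surjective π := MonoidHom.rangeRestrict_surjective _
  obtain ⟨m, rfl⟩ := hg
  have := moufang (U := closure (π '' ((normalizer L).subtype ⁻¹' I))) (a := Quotient.mk'' ⟨a, ha⟩)
    (b := Quotient.mk'' ⟨b, hb⟩) (fun z hz => (closure_le (stabilizer _ _)).2 (by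
      rintro _ ⟨z, hz, rfl⟩; exact (e ..).2 (hI _ hz).2.1) hz)
    (fun z hz => sq_of_closure (by
      rintro _ ⟨z, hz, rfl⟩; rw [← map_mul, show z * z = 1 from Subtype.ext (hI _ hz).2.2, map_one]) (by
      rintro _ ⟨z, hz, rfl⟩ _ ⟨w, hw, rfl⟩
      refine eq_of_smul_eq_smul fun p : Quotient s => Quotient.inductionOn' p fun p => ?_
      rw [← map_mul, ← map_mul]
      exact Quotient.eq''.2 (h2 _ hz _ hw _ p.2)) hz)
    (fun p q => Quotient.inductionOn₂' p q fun p q e1 e2 => by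
      obtain ⟨z, hz, e3⟩ := h3 _ p.2 _ q.2 (fun e => e1 (Quotient.eq''.2 e)) fun e => e2 (Quotient.eq''.2 e)
      exact ⟨_, mem_cl ⟨⟨z, (hI z hz).1⟩, hz, rfl⟩, (e ..).2 e3⟩)
    (fun n hn z hz => by
      obtain ⟨n, rfl⟩ := hπ n
      refine nz_cj (mem_nz_closure ?_) hz
      rintro _ ⟨z, hz, rfl⟩
      exact mem_cl ⟨cj n z, h4 _ n.2 ((e ..).1 hn) _ hz, map_cj ..⟩)
    (fun e => hab (Quotient.eq''.1 e)) (let ⟨n, h, e1⟩ := h5; ⟨π ⟨n, h⟩, (e ..).2 e1⟩)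
    (k := π ⟨k, hk⟩) (l := π ⟨l, hl⟩) ((e ..).2 ka) ((e ..).2 kb) ((e ..).2 la) ((e ..).2 lb)
    (g := π (⁅(⟨k, hk⟩ : normalizer L), ⟨l, hl⟩⁆ ^ m)) ⟨m, by rw [map_zpow, map_commutatorElement]⟩
    (Two.map (let ⟨n, hn⟩ := t2; ⟨n, Subtype.ext hn⟩) π)
  exact (e (⁅(⟨k, hk⟩ : normalizer L), ⟨l, hl⟩⁆ ^ m) ⟨p, hp⟩ ⟨p, hp⟩).1 (by rw [this, one_smul])

end Cfsg.Lib.RI
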