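import Cfsg.Agent.Lib.RI.ECon

/-!
# Root structure theorem, part 1: natural modules for `S₃`, crossing.  See `docs/RI.md`.
-/

set_option autoImplicit false

namespace Cfsg.Lib.RI

open Subgroup Cfsg.Lib.Inv Relation

variable {G : Type*} [Group G] {D T : Set G} {a b c d e f g p q t u w x y z : G}

/-- `b` is a product partner of `a`. -/
structure Xp (D : Set G) (a b : G) : Prop where
  l : a ∈ D
  r : b ∈ D
  c : Commute a b
  m : a * b ∈ D

theorem Xp.symm (h : Xp D a b) : Xp D b a := ⟨h.r, h.l, h.c.symm, h.c.eq ▸ h.m⟩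

theorem br_eq (ha : a * a = 1) (hb : b * b = 1) : a * cj b a = cj a b * b := mul_cj_comm ha hb

theorem braid (ha : a * a = 1) (hx : x * x = 1) (o : orderOf (a * x) = 3) : cj x a = cj a x := by
  have h : a * x * (a * x) * (a * x) = 1 := by
    have := pow_orderOf_eq_one (a * x)
    rwa [o, pow_succ, sq] at this
  rw [cj_inv_inv ha, cj_inv_inv hx]
  refine (eq_of_mul_eq_one' (y := x * a * x) ?_ ?_).symm
  · simp only [mul_assoc, cancel2 hx, cancel2 ha, hx]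
  · simpa only [mul_assoc] using h

namespace Rt

variable (hD : Rt D)
include hD

theorem xp_l (ha : a ∈ D) (hb : b ∈ D) (h : Vp a b) : Xp D a (a * cj b a) :=
  ⟨ha, hD.vp_mem ha hb h, h.comm_left, hD.vp_left ha hb⟩

theorem xp_r (ha : a ∈ D) (hb : b ∈ D) (h : Vp a b) : Xp D b (a * cj b a) :=
  ⟨hb, hD.vp_mem ha hb h, h.comm_right (hD.sqr hb), hD.vp_right ha hb h⟩

theorem swap (ha : a ∈ D) (hb : b ∈ D) (h : Vp a b) : b * cj a b = a * cj b a :=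
  h.swap (hD.sqr ha) (hD.sqr hb)

theorem f1 (h : Xp D a b) (hx : x ∈ D) (o : Od x a) : ¬ Commute x b := hD.l0'' hx h.r h.c h.m o

theorem xp_cj (hg : g ∈ closure D) (h : Xp D a b) : Xp D (cj g a) (cj g b) :=
  ⟨hD.cjm hg h.l, hD.cjm hg h.r, Commute_cj g h.c, cj_mul g a b ▸ hD.cjm hg h.m⟩

theorem xp_mul (h : Xp D a b) : Xp D a (a * b) :=
  ⟨h.l, h.m, (Commute.refl a).mul_right h.c, by rw [cancel2 (hD.sqr h.l)]; exact h.r⟩

theorem xp_ne (h : Xp D a b) : a ≠ b := hD.ne_of_mul h.r h.m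

theorem vp_of_ec (hx : x ∈ D) (ha : a ∈ D) (hb : b ∈ D) (h : Ec D a b) (v : Vp x a) : Vp x b :=
  hD.vp_of hx hb (fun e => v.1 ((h x hx).2 e)) fun e =>
    v.not_od (hD.sqr hx) (hD.sqr ha) (hD.od_of_ec hx ha h.symm e hb)

theorem sig_mem (ha : a ∈ D) (hx : x ∈ D) : cj x a ∈ closure D := mem_cl (hD.conj a ha x hx)

theorem sig_sq (ha : a ∈ D) (x y : G) : cj (cj x a) (cj (cj x a) y) = y :=
  cj_sq (cj_mul_self (hD.sqr ha) x) y

theorem sig_l (ha : a ∈ D) (hx : x ∈ D) (o : orderOf (a * x) = 3) : cj (cj x a) a = x := by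
  rw [braid (hD.sqr ha) (hD.sqr hx) o]
  nth_rewrite 2 [← cj_self a]
  rw [← cj_cj', braid (hD.sqr ha) (hD.sqr hx) o, cj_sq (hD.sqr ha)]

theorem sig_r (ha : a ∈ D) (hx : x ∈ D) (o : orderOf (a * x) = 3) : cj (cj x a) x = a := by
  conv_lhs => rw [← hD.sig_l ha hx o]
  rw [hD.sig_l ha hx o]; nth_rewrite 2 [← hD.sig_l ha hx o]; exact hD.sig_sq ha x a

/-- The natural module of `⟨a, x⟩ ≅ S₃` spanned by `y`. -/
theorem nat (hx : x ∈ D) (o : orderOf (a * x) = 3) (hy : Xp D a y) (v : Vp x y) :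
    Vp a (x * cj y x) ∧ a * cj (x * cj y x) a = y ∧ x * cj y x = cj (cj x a) y := by
  have ha := hy.l
  have sa := hD.sqr ha
  have sx := hD.sqr hx
  have sy := hD.sqr hy.r
  have od := (od_of_three sa sx o).symm
  have v1 := hD.l3_maps hx ha od hy.r hy.c v
  have hw := hD.vp_mem hx hy.r v
  have c12 : Commute y (cj x y) := (v.symm sx sy).2
  have ay : cj a y = y := cj_of_comm hy.c
  have c13 : Commute y (cj a (cj x y)) := by rw [← ay]; nth_rewrite 2 [ay]; exact Commute_cj a c12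
  have x3 : cj x (cj a (cj x y)) = cj a (cj x y) := by
    rw [cj_cj' x a, braid sa sx o, cj_sq sx]
    conv_lhs => rw [← ay, ← cj_cj']
  have c23 : Commute (cj x y) (cj a (cj x y)) := by rw [← x3]; exact Commute_cj x c13
  have e1 : x * cj y x = cj x y * y := br_eq sx sy
  have e2 : a * cj (x * cj y x) a = cj a (cj x y) * cj x y := by
    rw [br_eq sa (hD.sqr hw), e1, cj_mul, ay, mul_assoc, ← c12.eq, cancel2 sy]
  have e3 : y = a * cj (x * cj y x) a := by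
    refine hD.l3_inj hx ha od hy.r hy.c hy.m v (hD.vp_mem ha hw v1) v1.comm_left (hD.vp_left ha hw) ?_
    have : Commute (y * (cj a (cj x y) * cj x y)) x := by
      refine (cj_eq_iff.1 ?_).symm
      rw [cj_mul, cj_mul, x3, cj_sq sx, c23.left_comm, c13.left_comm, c12.eq]
    rw [e2, ← cj_inj (g := y), cj_sq sy, cj_cj, cj_of_comm this]
  refine ⟨v1, e3.symm, ?_⟩
  rw [← cj_sq sx y]; nth_rewrite 1 [cj_sq sx]
  rw [← cj_cj', x3, e1]; nth_rewrite 2 [e3]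
  rw [e2, ← c23.eq, cancel2 (cj_mul_self sy x)]

/-- Crossing. -/
theorem cross (v : Vp b c) (hf : b * cj c b = f) (hx : x ∈ D) (v1 : Vp f x) (e1 : f * cj x f = c)
    (o : orderOf (b * x) = 3) (hb : Xp D b d) (hc : Xp D c d) :
    Vp x d ∧ Vp b (x * cj d x) ∧ b * cj (x * cj d x) b = d ∧ Xp D f (x * cj d x) ∧
      (d ≠ f → d * f ∈ D) := by
  have sb := hD.sqr hb.l
  have sx := hD.sqr hx
  have sd := hD.sqr hb.r
  have bf : Xp D b f := hf ▸ hD.xp_l hb.l hc.l v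
  have sf := hD.sqr bf.r
  have xc : Commute x c := e1 ▸ v1.comm_right sx
  have v2 := hD.vp_of hx hb.r (hD.f1 hb hx (od_of_three sb sx o).symm) fun h => hD.f1 hc.symm hx h xc
  obtain ⟨v3, e2, e3⟩ := hD.nat hx o hb v2
  obtain ⟨-, -, e4⟩ := hD.nat hx o bf (v1.symm sf sx)
  rw [v1.swap sf sx, e1] at e4
  have h1 := hD.xp_cj (hD.sig_mem hb.l hx) hc
  rw [e4, hD.sig_sq hb.l, ← e3] at h1
  refine ⟨v2, v3, e2, h1, fun ne => ?_⟩
  have h2 := hD.xp_cj (mem_cl hx) hc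
  rw [cj_of_comm xc] at h2
  have df : Commute d f := hf ▸ hb.c.symm.mul_right (RI.comm_cj hc.c.symm hb.c.symm)
  have e5 : cj b c = f * c := by rw [← hf, br_eq sb (hD.sqr hc.l), mul_assoc, hD.sqr hc.l, mul_one]
  have e6 : cj b (cj x d) = d * cj x d := by
    have := e2
    rw [br_eq sb (hD.sqr h1.r), br_eq sx sd, cj_mul, cj_of_comm hb.c, mul_assoc,
      ← (v2.symm sx sd).2.eq, cancel2 sd] at this
    rw [eq_mul_inv_of_mul_eq this, inv_eq_of_mul_self (cj_mul_self sd x)]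
  have e7 : b * cj (c * cj x d) b = d * f := by
    rw [br_eq sb (hD.sqr h2.m), cj_mul, e5, e6, mul_assoc f, hc.c.left_comm, ← mul_assoc f, ← df.eq,
      mul_assoc, hD.sqr h2.m, mul_one]
  rw [← e7]
  refine hD.vp_mem hb.l h2.m ⟨fun h => ne (eq_of_mul_eq_one' sf ?_), ?_⟩
  · rw [← e7, cj_of_comm h.symm, sb]
  · rw [eq_inv_mul_of_mul_eq e7]
    exact (Commute.refl b).inv_right.mul_right (hb.c.mul_right bf.c)

variable [Finite G] (ho : IsConnectedSet (OddAdj D) D)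
include ho

theorem vp_s3' (ha : a ∈ D) (hw : w ∈ D) (h : Vp a w) :
    ∃ x ∈ D, Vp (a * cj w a) x ∧ a * cj w a * cj x (a * cj w a) = w ∧ orderOf (a * x) = 3 := by
  have h1 := (hD.xp_r ha hw h).symm
  obtain ⟨x, hx, h1, h2⟩ := hD.exists_cj_eq ho h1.l hw h1.c h1.m fun e => h.1 ((e a ha).1 h.comm_left)
  exact ⟨x, hx, h1, h2, hD.s3 ha (hD.vp_mem ha hw h) hw hx h rfl h1 h2⟩

end Rt

/-- `b ∈ 𝓑(d, f)`. -/
def Bs (D : Set G) (d f b : G) : Prop := Xp D b d ∧ ∃ c, Xp D c d ∧ Vp b c ∧ b * cj c b = f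

theorem vp_mul (v : Vp b c) (h1 : Commute b d) (h2 : Commute c d) (sd : d * d = 1) :
    Vp (b * d) c ∧ b * d * cj c (b * d) = b * cj c b := by
  have h3 : Commute d (cj c b) := comm_cj h2.symm h1.symm
  rw [Vp, cj_mul, cj_of_comm h2]
  refine ⟨⟨fun h => v.1 ?_, (v.2.mul_right h1).mul_left (h3.mul_right (Commute.refl d))⟩, ?_⟩
  · simpa using h.mul_left h2.symm.inv_left
  · rw [mul_assoc, h3.left_comm, sd, mul_one]

namespace Rt

variable (hD : Rt D)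
include hD

theorem bs_mul (h : Bs D d f b) : Bs D d f (b * d) :=
  let ⟨h1, c, h2, v, e⟩ := h
  have := vp_mul v h1.c h2.c (hD.sqr h1.r)
  ⟨h1.c.eq ▸ (hD.xp_mul h1.symm).symm, c, h2, this.1, this.2.trans e⟩

theorem bs_xp (h : Bs D d f b) : Xp D b f :=
  let ⟨h1, _, h2, v, e⟩ := h
  e ▸ hD.xp_l h1.l h2.l v

variable [Finite G] (ho : IsConnectedSet (OddAdj D) D)
include ho

theorem bs_cross (h : Bs D d f b) :
    (∃ c', Xp D c' f ∧ Vp c' b ∧ c' * cj b c' = d) ∧ (d ≠ f → d * f ∈ D) := by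
  obtain ⟨h1, c, h2, v, e⟩ := h
  obtain ⟨x, hx, h3, h4, h5⟩ := hD.vp_s3' ho h1.l h2.l v
  rw [e] at h3 h4
  obtain ⟨-, h6, h7, h8, h9⟩ := hD.cross v e hx h3 h4 h5 h1 h2
  exact ⟨⟨_, h8.symm, hD.vp_symm h1.l h8.r h6, (hD.swap h1.l h8.r h6).trans h7⟩, h9⟩

theorem bs_symm (h : Bs D d f b) : Bs D f d b :=
  let ⟨⟨c', h1, v, e⟩, _⟩ := hD.bs_cross ho h
  ⟨hD.bs_xp h, c', h1, hD.vp_symm h1.l h.1.l v, (hD.swap h1.l h.1.l v).trans e⟩

variable (hd : Xp D d f) (hx : x ∈ D) (v : Vp f x) (et : f * cj x f = t) (o : orderOf (d * x) = 3)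
include hd hx v et o

omit [Finite G] ho in
theorem sig_f : cj (cj x d) f = t :=
  (hD.nat hx o hd (hD.vp_symm hd.r hx v)).2.2.symm.trans ((hD.swap hd.r hx v).trans et)

theorem a2 (h : Bs D d f b) : ¬ Commute b t := fun c => by
  have xt : Xp D x t := et ▸ hD.xp_r hd.r hx v
  have od := (od_of_three (hD.sqr hd.l) (hD.sqr hx) o).symm
  have v1 := hD.vp_of hx h.1.l (hD.f1 h.1.symm hx od) fun h' => hD.f1 xt h.1.l h'.symm c
  obtain ⟨v2, e2, e3⟩ := hD.nat hx o h.1.symm v1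
  obtain ⟨⟨c', h1, v3, e4⟩, -⟩ := hD.bs_cross ho h
  have m := hD.vp_mem hx h.1.l v1
  refine hD.f1 h1 m (od_of_three (hD.sqr h1.l) (hD.sqr m) (hD.s3 h1.l hd.l h.1.l m v3 e4 v2 e2)).symm ?_
  rw [e3, ← hD.sig_sq hd.l x f, hD.sig_f hd hx v et o]
  exact Commute_cj _ c

theorem a3 (h : Bs D d f b) : Od x b := by
  by_contra hn
  have ft : Xp D f t := et ▸ hD.xp_l hd.r hx v
  have od := (od_of_three (hD.sqr hd.l) (hD.sqr hx) o).symm
  have v1 := hD.vp_of hx h.1.l (hD.f1 h.1.symm hx od) hn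
  obtain ⟨v2, e2, e3⟩ := hD.nat hx o h.1.symm v1
  obtain ⟨⟨c', h1, v3, e4⟩, -⟩ := hD.bs_cross ho h
  have m := hD.vp_mem hx h.1.l v1
  have bf := hD.bs_xp h
  obtain ⟨v4, v5, e5, h2, -⟩ := hD.cross v3 e4 m v2 e2 (hD.s3 h1.l hd.l h.1.l m v3 e4 v2 e2) h1 bf
  refine hD.a2 ho hd hx v et o ⟨h2.symm, c', (e4 ▸ hD.xp_l h1.l h.1.l v3 :), hD.vp_symm h1.l h2.r v5,
    (hD.swap h1.l h2.r v5).trans e5⟩ ?_
  have e6 := hD.sig_f hd hx v et o
  rw [e3, ← hD.sig_sq hd.l x f, e6, ← cj_cj', ← cj_mul]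
  nth_rewrite 2 [← e6]
  exact Commute_cj _ (bf.c.mul_left (RI.comm_cj ft.c bf.c.symm).symm)

end Rt

end Cfsg.Lib.RI
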