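import Cfsg.Agent.Lib.RI.RS1

/-!
# Root structure theorem, part 2: commutators inside `X_d` lie in `E_d`.  See `docs/RI.md`.
-/

set_option autoImplicit false

namespace Cfsg.Lib.RI

open Subgroup Cfsg.Lib.Inv Relation

variable {G : Type*} [Group G] {D T B : Set G} {a b c d e f g h n p q t u w x y z : G}

/-- `W_d`. -/
def Wd (D : Set G) (d : G) : Set G := {w | w ∈ D ∧ Commute d w ∧ ∀ z ∈ D, Commute d z → ¬ Od w z}

/-- The sets `E_d ∪ {1}` are closed under products. -/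
def HE (D : Set G) : Prop := ∀ a ∈ D, ∀ b ∈ D, Ec D a b → a ≠ b → a * b ∈ D

namespace Rt

variable (hD : Rt D)
include hD

theorem no_desc [Finite G] (h : ∀ a ∈ D, ∀ b ∈ D, ¬ Od a b) (hB : B ⊆ D) (ha : a ∈ B) :
    ∃ t ∈ B, ∀ s ∈ D, Vp t s → t * cj s t ∉ B := by
  have : Fact (Nat.Prime 2) := ⟨Nat.prime_two⟩
  have := (hD.isPGroup_of_no_od h).isNilpotent
  by_contra! hn
  have key : ∀ k, ∃ t : closure D, t.1 ∈ B ∧ t ∈ (⊤ : Subgroup (closure D)).lowerCentralSeries k := by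
    intro k
    induction k with
    | zero => exact ⟨⟨a, mem_cl (hB ha)⟩, ha, mem_top _⟩
    | succ k ih =>
      obtain ⟨t, ht, h1⟩ := ih
      obtain ⟨s, hs, -, h2⟩ := hn t ht
      refine ⟨_, ?_, commutator_mem_commutator h1 (mem_top (⟨s, mem_cl hs⟩ : closure D))⟩
      convert h2 using 1
      simp [commutatorElement_def, cj_def, hD.inv_eq (hB ht), mul_assoc]
  obtain ⟨t, ht, h1⟩ := key (Group.nilpotencyClass (closure D))
  rw [Subgroup.lowerCentralSeries_nilpotencyClass, mem_bot] at h1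
  exact hD.ne_one (hB ht) (by rw [h1]; rfl)

theorem wd_cj (hz : z ∈ D) (c : Commute d z) (hw : w ∈ Wd D d) : cj z w ∈ Wd D d :=
  ⟨hD.conj w hw.1 z hz, RI.comm_cj c hw.2.1, fun y hy c' o => hw.2.2 _ (hD.conj y hy z hz)
    (RI.comm_cj c c') (by simpa [cj_sq (hD.sqr hz)] using o.conj z)⟩

theorem wd_rt : Rt (Wd D d) := hD.mono (fun _ h => h.1) (fun _ ha _ hb => hD.wd_cj hb.1 hb.2.1 ha)
  fun _ ha _ hb v => have h1 := hD.wd_cj hb.1 hb.2.1 ha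
    ⟨hD.vp_mem ha.1 hb.1 v, ha.2.1.mul_right h1.2.1, fun z hz c o =>
      l1 (hD.sqr ha.1) (hD.sqr h1.1) v.2 (hD.comm_cj hz ha.1 fun e => ha.2.2 z hz c e.symm)
        (hD.comm_cj hz h1.1 fun e => h1.2.2 z hz c e.symm) o.symm⟩

omit hD in
theorem wd_no_od : ∀ a ∈ Wd D d, ∀ b ∈ Wd D d, ¬ Od a b := fun _ ha _ hb => ha.2.2 _ hb.1 hb.2.1

theorem wd_of_xp (h : Xp D e w) (he : Ec D d e) : w ∈ Wd D d :=
  ⟨h.r, ((he w h.r).2 h.c.symm).symm, fun z hz c o => hD.f1 h.symm hz o.symm ((he z hz).1 c.symm)⟩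

theorem br_mul (hf : f ∈ D) (hg : Commute g (f * cj u f)) :
    f * cj (g * u) f = f * cj g f * (f * cj u f) := by
  rw [mul_assoc, ← cj_of_comm hg, ← cj_mul, cancel2 (hD.sqr hf), cj_cj]

variable [Finite G] (ho : IsConnectedSet (OddAdj D) D)
include ho

theorem ec_mul₀ (ha : a ∈ D) (h : Ec D a b) (m : a * b ∈ D) : Ec D a (a * b) :=
  hD.ec_of_sub' ho ha m fun x hx c => c.mul_right ((h x hx).1 c)

theorem ec_card (ha : a ∈ D) (hb : b ∈ D) :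
    {e | e ∈ D ∧ Ec D a e}.ncard ≤ {e | e ∈ D ∧ Ec D b e}.ncard := by
  obtain ⟨g, hg, rfl⟩ := hD.oc_conj' (ho a ha b hb)
  exact Set.ncard_le_ncard_of_injOn (cj g) (fun e he => ⟨hD.cjm hg he.1, hD.ec_cj hg he.2⟩)
    fun _ _ _ _ e => cj_inj.1 e

theorem b0 (hE : HE D) (hd : Xp D d f) (hx : x ∈ D) (o : Od x d) (v : Vp x f)
    (good : ∀ q, Xp D f q → Vp d q → Ec D f (d * cj q d)) (he : e ∈ D) (h : Ec D f e) : Xp D d e := by
  have h1 : ∀ g ∈ D, Ec D x g → Vp f g ∧ Vp d (f * cj g f) := fun g hg e1 => by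
    have v1 := hD.vp_of_ec hd.r hx hg e1 (hD.vp_symm hx hd.r v)
    have v2 := hD.vp_symm hd.r hg v1
    exact ⟨v1, hD.swap hg hd.r v2 ▸ hD.l3_maps hg hd.l (hD.od_of_ec hd.l hg e1 o.symm hx).symm hd.r hd.c v2⟩
  have h2 : {e | e ∈ D ∧ Ec D f e ∧ Xp D d e} = {e | e ∈ D ∧ Ec D f e} := by
    refine Set.eq_of_subset_of_ncard_le (fun e he => ⟨he.1, he.2.1⟩) ((hD.ec_card ho hd.r hx).trans
      (Set.ncard_le_ncard_of_injOn (fun g => d * cj (f * cj g f) d) (fun g hg => ?_) fun g hg g' hg' e1 => ?_))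
    · obtain ⟨v1, v2⟩ := h1 g hg.1 hg.2
      have m := hD.xp_l hd.r hg.1 v1
      exact ⟨hD.vp_mem hd.l m.r v2, good _ m v2, hD.xp_l hd.l m.r v2⟩
    · by_contra ne
      have e2 := hg.2.symm.trans hg'.2
      have m := hE g hg.1 g' hg'.1 e2 ne
      obtain ⟨v1, -⟩ := h1 g hg.1 hg.2
      obtain ⟨v2, -⟩ := h1 g' hg'.1 hg'.2
      have m2 := hD.xp_r hd.r hg'.1 v2
      refine (h1 _ m (hg.2.trans (hD.ec_mul₀ ho hg.1 e2 m))).2.1 ?_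
      rw [hD.br_mul hd.r ((e2 _ m2.r).2 m2.c.symm).symm]
      refine (cj_eq_iff.1 ?_).symm
      rw [← cj_cj, ← mul_left_cancel e1, cj_sq (hD.sqr (hD.vp_mem hd.r hg.1 v1))]
  exact (h2.ge ⟨he, h⟩).2.2

theorem cl2 (h : Bs D d f p) (he : Ec D f e) (h' : Xp D p e) : Xp D (p * d) e := by
  obtain ⟨h1, c, h2, v, e1⟩ := id h
  obtain ⟨x, hx, h3, h4, h5⟩ := hD.vp_s3' ho h1.l h2.l v
  rw [e1] at h3 h4
  have pf := hD.bs_xp h
  obtain ⟨v2, e2, e3⟩ := hD.nat hx h5 h' (hD.vp_of_ec hx pf.r h'.r he (hD.vp_symm pf.r hx h3))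
  have h6 := hD.ec_cj (hD.sig_mem h1.l hx) he
  rw [hD.sig_f pf hx h3 h4 h5, ← e3] at h6
  obtain ⟨v3, e4⟩ := vp_mul v2 h1.c ((h6 d h1.r).1 h2.c.symm).symm (hD.sqr h1.r)
  have := hD.xp_l h1.m (e3 ▸ hD.cjm (hD.sig_mem h1.l hx) h'.r) v3
  rwa [e4, e2] at this

section main

variable (hE : HE D) (hd : Xp D d f) (hx : x ∈ D) (v : Vp f x) (et : f * cj x f = t)
  (o : orderOf (d * x) = 3) (good : ∀ e q, Ec D f e → Xp D e q → Vp d q → Ec D f (d * cj q d))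
  (hp : Bs D d f p)
include hE hd hx v et o good hp

theorem m1 (he : e ∈ D) (h : Ec D f e) : Xp D d e ∧ Xp D x (cj (cj x d) e) ∧ Ec D t (cj (cj x d) e) ∧
    d * cj (cj (cj x d) e) d = e ∧ Vp p (cj (cj x d) e) ∧ Vp x (p * cj (cj (cj x d) e) p) ∧
    Ec D f (cj (cj x d) (x * cj (p * cj (cj (cj x d) e) p) x)) := by
  have od := (od_of_three (hD.sqr hd.l) (hD.sqr hx) o).symm
  have v' := hD.vp_symm hd.r hx v
  have h1 := hD.b0 ho hE hd hx od v' (fun q => good f q (Ec.refl D f)) he h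
  have s := hD.sig_mem hd.l hx
  obtain ⟨-, e2, e3⟩ := hD.nat hx o h1 (hD.vp_of_ec hx hd.r he h v')
  have h2 := hD.xp_cj s h1
  have h3 := hD.ec_cj s h
  rw [hD.sig_l hd.l hx o] at h2
  rw [hD.sig_f hd hx v et o] at h3
  have ft : Xp D f t := et ▸ hD.xp_l hd.r hx v
  have v1 := hD.vp_of_ec hp.1.l ft.r h2.r h3 (hD.vp_of hp.1.l ft.r (hD.a2 ho hd hx v et o hp)
    fun e => hD.f1 ft.symm hp.1.l e (hD.bs_xp hp).c)
  have v2 := hD.l3_maps hp.1.l hx (hD.a3 ho hd hx v et o hp).symm h2.r h2.c v1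
  refine ⟨h1, h2, h3, e3 ▸ e2, v1, v2, ?_⟩
  have h4 := hD.xp_cj s (hD.xp_r hp.1.l h2.r v1)
  have v3 := (vp_cj (g := cj x d)).2 v2
  rw [hD.sig_sq hd.l] at h4
  rw [hD.sig_r hd.l hx o] at v3
  have := good e _ h h4 v3
  rwa [cj_mul, cj_cj', hD.sig_r hd.l hx o]

theorem m2 (he : e ∈ D) (h : Ec D f e) (h' : Xp D p e) :
    ∃ a ∈ D, Ec D f a ∧ p * cj (cj (cj x d) a) p = e := by
  have op := hD.a3 ho hd hx v et o hp
  have s := hD.sig_mem hd.l hx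
  have k := fun e he h => hD.m1 ho hE hd hx v et o good hp (e := e) he h
  have hi : Set.InjOn (fun a => cj (cj x d) (x * cj (p * cj (cj (cj x d) a) p) x))
      {a | a ∈ D ∧ Ec D f a} := fun a ha b hb e1 => by
    obtain ⟨-, a2, -, -, a5, a6, -⟩ := k a ha.1 ha.2
    obtain ⟨-, b2, -, -, b5, -, -⟩ := k b hb.1 hb.2
    have a8 := hD.xp_l hp.1.l a2.r a5
    have b8 := hD.xp_l hp.1.l b2.r b5
    exact cj_inj.1 (hD.l3_inj hp.1.l hx op.symm a2.r a2.c a2.m a5 b2.r b2.c b2.m (mul_left_cancel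
      (hD.l3_inj hx hp.1.l op a8.r a8.c a8.m a6 b8.r b8.c b8.m (mul_left_cancel (cj_inj.1 e1)))))
  have hm : Set.MapsTo (fun a => cj (cj x d) (x * cj (p * cj (cj (cj x d) a) p) x))
      {a | a ∈ D ∧ Ec D f a} {a | a ∈ D ∧ Ec D f a} := fun a ha => by
    obtain ⟨-, a2, -, -, a5, a6, a7⟩ := k a ha.1 ha.2
    exact ⟨hD.cjm s (hD.vp_mem hx (hD.vp_mem hp.1.l a2.r a5) a6), a7⟩
  obtain ⟨a, ha, e1⟩ := surj_of_inj (Set.toFinite _) (Set.toFinite _) hm hi hm hi (b := e) ⟨he, h⟩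
  refine ⟨a, ha.1, ha.2, ?_⟩
  obtain ⟨-, a2, a3, -, a5, a6, -⟩ := k a ha.1 ha.2
  have a8 := hD.xp_l hp.1.l a2.r a5
  have ft : Xp D f t := et ▸ hD.xp_l hd.r hx v
  have c1 : Commute f (p * cj (cj (cj x d) a) p) :=
    (hD.bs_xp hp).c.symm.mul_right (RI.comm_cj ((a3 f hd.r).1 ft.c) (hD.bs_xp hp).c.symm)
  generalize p * cj (cj (cj x d) a) p = β at *
  have c2 : Commute β e := (h β a8.r).1 c1.symm
  obtain ⟨-, -, e3⟩ := hD.nat hx o (k e he h).1 (hD.vp_of_ec hx hd.r he h (hD.vp_symm hd.r hx v))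
  have e4 : cj β x = cj e x := mul_left_cancel (a := x) (by
    rw [e3, ← e1]; exact (hD.sig_sq hd.l x _).symm)
  refine eq_of_mul_eq_one' (hD.sqr he) (hD.l0 hx ((hD.od_or hx a8.r a8.c a8.m op).resolve_left
    (a6.not_od (hD.sqr hx) (hD.sqr a8.r))) (two_of_sq (mul_sq_of_comm (hD.sqr a8.r) (hD.sqr he) c2))
    ?_ ((a8.c.mul_right h'.c).symm.mul_right ((Commute.refl β).mul_left c2.symm)) ?_)
  · rw [← cj_eq_iff, ← cj_cj, ← e4, cj_sq (hD.sqr a8.r)]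
  · rw [mul_assoc, cancel2 (hD.sqr a8.r)]; exact h'.m

theorem m3 (ha : Xp D p a) (hb : Xp D p b) (h1 : Ec D f a) (h2 : Ec D f b) (ne : a ≠ b) :
    Xp D p (a * b) := by
  obtain ⟨a', a1, a2, rfl⟩ := hD.m2 ho hE hd hx v et o good hp ha.r h1 ha
  obtain ⟨b', b1, b2, rfl⟩ := hD.m2 ho hE hd hx v et o good hp hb.r h2 hb
  have e1 := a2.symm.trans b2
  have m := hE a' a1 b' b1 e1 fun e => ne (e ▸ rfl)
  obtain ⟨-, k2, k3, -⟩ := hD.m1 ho hE hd hx v et o good hp a1 a2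
  obtain ⟨-, l2, -, -, l5, -, -⟩ := hD.m1 ho hE hd hx v et o good hp m (a2.trans (hD.ec_mul₀ ho a1 e1 m))
  have ft : Xp D f t := et ▸ hD.xp_l hd.r hx v
  rw [← hD.br_mul hp.1.l ((h2 _ k2.r).1 ((k3 f hd.r).1 ft.c).symm), ← cj_mul]
  exact hD.xp_l hp.1.l l2.r l5

theorem m4 : Ec D f (p * cj t p) := by
  have k := fun e he h => hD.m1 ho hE hd hx v et o good hp (e := e) he h
  have h1 : {e | e ∈ D ∧ Ec D f e ∧ Ec D f (p * cj (cj (cj x d) e) p)} =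
      {e | e ∈ D ∧ Ec D f e ∧ Xp D p e} := by
    refine Set.eq_of_subset_of_ncard_le (fun e ⟨he, h, h'⟩ => ⟨he, h, ?_⟩) ?_
    · obtain ⟨a1, a2, -, a4, a5, -, -⟩ := k e he h
      obtain ⟨-, -, -, -, b5, -, -⟩ := hD.m1 ho hE hd hx v et o good (hD.bs_mul hp) he h
      have a8 := hD.xp_l hp.1.l a2.r a5
      have b8 := hD.xp_l hp.1.m a2.r b5
      have e1 : p * d * cj (cj (cj x d) e) (p * d) = p * cj (cj (cj x d) e) p * e := by
        rw [cj_mul, mul_assoc, eq_inv_mul_of_mul_eq a4, hD.inv_eq hd.l,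
          ← cancel2 (hD.sqr hp.1.l) (cj _ p), mul_assoc p, hp.1.c.symm.left_comm,
          ((h' d hd.l).1 hd.c).symm.left_comm, cancel2 (hD.sqr hd.l), cancel2 (hD.sqr hp.1.l),
          cancel2 (hD.sqr hp.1.l)]
      rw [e1] at b8
      have h3 := h'.trans (hD.ec_mul₀ ho a8.r (h'.symm.trans h) b8.r)
      have b9 := hD.cl2 ho (hD.bs_mul hp) h3 b8
      rw [mul_assoc, hD.sqr hd.l, mul_one] at b9
      have := hD.m3 ho hE hd hx v et o good hp a8 b9 h' h3 fun e2 => hD.ne_one he (by simpa using e2)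
      rwa [cancel2 (hD.sqr a8.r)] at this
    · refine le_trans (Set.ncard_le_ncard ?_)
        (Set.ncard_image_le (f := fun e => p * cj (cj (cj x d) e) p))
      rintro e ⟨he, h, h'⟩
      obtain ⟨a, a1, a2, e1⟩ := hD.m2 ho hE hd hx v et o good hp he h h'
      exact ⟨a, ⟨a1, a2, e1 ▸ h⟩, e1⟩
  have := (h1.ge ⟨hd.r, Ec.refl D f, hD.bs_xp hp⟩).2.2
  rwa [hD.sig_f hd hx v et o] at this

end main

theorem bs_xp' (h : Bs D d f b) (ne : d ≠ f) : Xp D d f :=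
  let ⟨h1, _, h2, _, e⟩ := id h
  ⟨h1.r, (hD.bs_xp h).r, e ▸ h1.c.symm.mul_right (RI.comm_cj h2.c.symm h1.c.symm),
    (hD.bs_cross ho h).2 ne⟩

/-- (A) -/
theorem bs_ec (hE : HE D) (h : Bs D d f b) : Ec D d f := by
  by_contra hn
  obtain ⟨d, ⟨n, e, b, he, hb⟩, good⟩ := (hD.wd_rt (d := f)).no_desc wd_no_od
    (B := {d | ¬ Ec D f d ∧ ∃ e b, Ec D f e ∧ Bs D d e b}) (a := d) (fun d ⟨n, e, b, he, hb⟩ =>
      hD.wd_of_xp (hD.bs_xp' ho hb fun e1 => n (e1 ▸ he)).symm he)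
    ⟨fun e => hn e.symm, f, b, Ec.refl D f, h⟩
  have hd := hD.bs_xp' ho hb fun e1 => n (e1 ▸ he)
  obtain ⟨t, ht, x, hx, v1, e1, v, et, o⟩ := hD.exists_s3 ho hd.l hd.r hd.c hd.m fun e1 =>
    n (he.trans e1.symm)
  have g0 : ∀ e' q, Ec D e e' → Xp D e' d → Xp D e' q → Vp d q → Ec D e (d * cj q d) :=
    fun e' q h1 h0 h2 h3 => by_contra fun h4 => good q (hD.wd_of_xp h2 (he.trans h1)) h3
      ⟨fun h5 => h4 (he.symm.trans h5), e', d, he.trans h1, hD.bs_symm ho ⟨h0.symm, q, h2.symm, h3, rfl⟩⟩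
  have g1 : ∀ e' q, Ec D e e' → Xp D e' q → Vp d q → Ec D e (d * cj q d) := fun e' q h1 h2 =>
    g0 e' q h1 (hD.b0 ho hE hd hx (od_of_three (hD.sqr hd.l) (hD.sqr hx) o).symm
      (hD.vp_symm hd.r hx v) (fun q => g0 e q (Ec.refl D e) hd.symm) h2.l h1).symm h2
  obtain ⟨⟨c, h1, v2, e2⟩, -⟩ := hD.bs_cross ho hb
  have hc : Bs D d e c := hD.bs_symm ho ⟨h1, b, hD.bs_xp hb, v2, e2⟩
  have k : ∀ p, Bs D d e p → ∃ β ∈ D, Ec D e β ∧ cj p t = β * t := fun p hp => by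
    have h2 := hD.m4 ho hE hd hx v et o g1 hp
    have h3 := (hD.m1 ho hE hd hx v et o g1 hp hd.r (Ec.refl D e)).2.2.2.2.1
    rw [hD.sig_f hd hx v et o] at h3
    exact ⟨_, hD.vp_mem hp.1.l ht h3, h2, by
      rw [br_eq (hD.sqr hp.1.l) (hD.sqr ht), mul_assoc, hD.sqr ht, mul_one]⟩
  obtain ⟨β, s1, b1, b2⟩ := k b hb
  obtain ⟨γ, s2, c1, c2⟩ := k c hc
  have f1 := cj_of_comm ((b1 b hb.1.l).1 (hD.bs_xp hb).c)
  have f2 := cj_of_comm ((b1 c h1.l).1 h1.c)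
  have f3 := cj_of_comm ((c1 b hb.1.l).1 (hD.bs_xp hb).c)
  have f4 := cj_of_comm ((c1 c h1.l).1 h1.c)
  refine v1.1 (cj_eq_iff.1 ?_)
  rw [← e2, ← sq_eq_mul_cj (hD.sqr hb.1.l), sq, ← cj_cj, ← cj_cj c b t, b2, cj_mul, f2, c2, ← cj_cj,
    cj_mul, cj_mul, cj_mul, cj_mul, f1, f3, f2, f4, b2, cj_mul, f2, c2]
  simpa only [mul_assoc, one_mul] using congrArg (· * t)
    (mul_sq_of_comm (hD.sqr s1) (hD.sqr s2) ((b1.symm.trans c1).comm s1))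

/-- (A) -/
theorem ra (hE : HE D) (hb : Xp D d b) (hc : Xp D d c) (v : Vp b c) : Ec D d (b * cj c b) :=
  hD.bs_ec ho hE ⟨hb.symm, c, hc.symm, v, rfl⟩

/-- (B0) -/
theorem rb0 (hE : HE D) (hd : Xp D d f) (n : ¬ Ec D d f) (he : e ∈ D) (h : Ec D f e) : Xp D d e := by
  obtain ⟨t, -, x, hx, -, -, v, -, o⟩ := hD.exists_s3 ho hd.l hd.r hd.c hd.m n
  exact hD.b0 ho hE hd hx (od_of_three (hD.sqr hd.l) (hD.sqr hx) o).symm (hD.vp_symm hd.r hx v)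
    (fun q => hD.ra ho hE hd.symm) he h

/-- (S) -/
theorem rs (hE : HE D) (he : e ∈ D) (hw : w ∈ D) (v : Vp e w) (hn : n ∈ D) (h : Ec D (e * cj w e) n) :
    ∃ w' ∈ D, Ec D w w' ∧ e * cj w' e = n := by
  obtain ⟨x, hx, v1, e1, o⟩ := hD.vp_s3' ho he hw v
  have h1 := hD.xp_l he hw v
  have h2 := hD.rb0 ho hE h1 (fun e => v.1 ((e w hw).2 (hD.xp_r he hw v).c).symm) hn h
  obtain ⟨-, e2, e3⟩ := hD.nat hx o h2 (hD.vp_of_ec hx h1.r hn h (hD.vp_symm h1.r hx v1))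
  have h3 := hD.ec_cj (hD.sig_mem he hx) h
  rw [hD.sig_f h1 hx v1 e1 o] at h3
  exact ⟨_, hD.cjm (hD.sig_mem he hx) hn, h3, e3 ▸ e2⟩

/-- (B) -/
theorem rb (hE : HE D) (hd : d ∈ D) (he : e ∈ Wd D d) (ne : d ≠ e) : d * e ∈ D := by
  by_contra hn
  obtain ⟨e, ⟨he, ne, hn⟩, good⟩ := (hD.wd_rt (d := d)).no_desc wd_no_od
    (B := {e | e ∈ Wd D d ∧ d ≠ e ∧ d * e ∉ D}) (a := e) (fun _ h => h.1) ⟨he, ne, hn⟩
  obtain ⟨x, hx, o, n⟩ : ∃ x ∈ D, Od x e ∧ ¬ Od x d := by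
    by_contra! h
    exact hn (hE d hd e he.1 (hD.ec_of_ac ho hd he.1 fun x hx =>
      ⟨hD.od_of_sub' ho he.1 hd h hx, h x hx⟩) ne)
  have v := hD.vp_of hx hd (fun c => he.2.2 x hx c.symm o.symm) n
  have xw := hD.xp_l hx hd v
  have dw := hD.xp_r hx hd v
  have v1 := hD.l3_maps hx he.1 o hd he.2.1.symm v
  obtain ⟨y, hy, c1, m1, v2, e1⟩ := hD.l3 hx he.1 o xw.r xw.c xw.m v1
  have e2 := mul_left_cancel e1
  have ey : Xp D e y := ⟨he.1, hy, c1, m1⟩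
  have h1 := hD.xp_cj (mem_cl hd) ey
  rw [cj_of_comm he.2.1] at h1
  have c2 : Commute d y := cj_eq_iff.1 (hD.l3_inj hx he.1 o hy c1 m1 v2 h1.r h1.c h1.m (by
    nth_rewrite 2 [← cj_sq (hD.sqr hd) x]
    rw [← cj_cj', ← e2, cj_sq (hD.sqr hy), e2])).symm
  have c3 : Commute (y * d) x := by rw [← cj_eq_iff, ← cj_cj, ← e2, cj_sq (hD.sqr hy)]
  generalize x * cj d x = w at *
  have h2 := hD.ra ho hE ey.symm (e1 ▸ hD.xp_r hx hy v2) v1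
  have hw := hD.wd_of_xp dw (Ec.refl D d)
  have h3 := hD.wd_rt.vp_mem he hw v1
  have n2 : ¬ Ec D y d := fun h => by
    by_cases e3 : y = d
    · exact hn (e3 ▸ ey.symm.m)
    · exact v2.1 ((hD.ec_mul₀ ho hy h (hE y hy d hd h e3) x hx).2 c3.symm)
  have h4 : Xp D d (e * cj w e) := ⟨hd, h3.1, h3.2.1, by_contra fun h =>
    good w hw v1 ⟨h3, fun e3 => n2 (e3 ▸ h2), h⟩⟩
  have h5 := (hD.rb0 ho hE h4 (fun h => n2 (h2.trans h.symm)) hy h2.symm).symm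
  have h6 := (hD.xp_mul h5).symm
  obtain ⟨g, hg, v3, e3⟩ := hD.exists_cj_eq ho h6.l hy h6.c h6.m fun h => v2.1 ((h x hx).1 c3.symm)
  have h7 : Xp D g y := e3 ▸ hD.xp_r h6.l hg v3
  have e4 : cj g (y * d) = d := by
    rw [eq_inv_mul_of_mul_eq e3, mul_inv_rev, mul_assoc, inv_mul_cancel, mul_one, hD.inv_eq hd]
  obtain ⟨k, hk, k1, k2⟩ : ∃ k ∈ closure D, cj k e = e ∧ cj k (y * d) = d := by
    rcases hD.tri he.1 hg with h | h | h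
    · exact ⟨g, mem_cl hg, cj_of_comm h.symm, e4⟩
    · exact absurd c1 (hD.f1 h7 he.1 h)
    obtain ⟨w', hw', k1, k2⟩ := hD.rs ho hE he.1 dw.r v1 (hD.vp_mem he.1 hg h)
      (h2.symm.trans (hD.ra ho hE ey.symm h7.symm h))
    exact ⟨w' * g, mul_mem (mem_cl hw') (mem_cl hg), by
      rw [← cj_cj, ← mul_left_cancel k2, cj_sq (hD.sqr hw')], by
      rw [← cj_cj, e4, cj_of_comm ((k1 d hd).1 dw.c).symm]⟩
  exact he.2.2 _ (hD.cjm hk hx) (k2 ▸ Commute_cj k c3) (k1 ▸ o.symm.conj k)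

end Rt

end Cfsg.Lib.RI
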