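import Cfsg.Agent.Lib.RI.RS2

/-!
# Root structure theorem, part 3: conclusions.  See `docs/RI.md`.
-/

set_option autoImplicit false

namespace Cfsg.Lib.RI

open Subgroup Cfsg.Lib.Inv Relation
open scoped commutatorElement

variable {G : Type*} [Group G] {D S : Set G} {a b c d e f g w x y z : G}

theorem comm_closure_le {Z : Subgroup G} (hZ : ∀ z ∈ Z, ∀ s ∈ S, Commute z s)
    (h : ∀ s ∈ S, ∀ t ∈ S, ⁅s, t⁆ ∈ Z) : ⁅closure S, closure S⁆ ≤ Z := by
  have k : ∀ x ∈ closure S, ∀ z ∈ Z, cj x z ∈ Z := fun x hx z hz => by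
    rwa [cj_of_comm (comm_closure (hZ z hz) hx).symm]
  have key : ∀ y, (∀ s ∈ S, ⁅s, y⁆ ∈ Z) → ∀ x ∈ closure S, ⁅x, y⁆ ∈ Z := fun y hy x hx => by
    induction hx using closure_induction with
    | mem s hs => exact hy s hs
    | one => simp
    | mul a b ha _ h1 h2 =>
      convert mul_mem (k a ha _ h2) h1 using 1
      simp [commutatorElement_def, cj_def, mul_assoc]
    | inv a ha h1 =>
      convert inv_mem (k _ (inv_mem ha) _ h1) using 1
      simp [commutatorElement_def, cj_def, mul_assoc]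
  refine commutator_le.2 fun x hx y hy => key y (fun s hs => ?_) x hx
  rw [← commutatorElement_inv]
  exact inv_mem (key s (fun t ht => h t ht s hs) y hy)

namespace Rt

variable (hD : Rt D)
include hD

theorem br_eq_comm (ha : a ∈ D) (b : G) : a * cj b a = ⁅a, b⁆ := by
  simp [commutatorElement_def, cj_def, hD.inv_eq ha, mul_assoc]

theorem iso_closure [Finite G] (he : e ∈ D) (h : e ∈ closure {w | w ∈ D ∧ ∀ b ∈ D, ¬ Od w b})
    (hb : b ∈ D) : ¬ Od e b := fun o => by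
  have h1 : closure {w | w ∈ D ∧ ∀ b ∈ D, ¬ Od w b} ≤ (pCore 2 (closure D)).map (closure D).subtype :=
    (closure_le _).2 fun w hw => ⟨⟨w, mem_cl hw.1⟩, (hD.sub _).mem_pCore (closure_sub D) hw.1
      fun b hb e => hw.2 _ hb ⟨fun e' => e.1 (Subtype.ext e'), by
        have := e.2
        rwa [← Subgroup.orderOf_coe] at this⟩, rfl⟩
  obtain ⟨e, h2, rfl⟩ := h1 h
  have o' : Od e ⟨b, mem_cl hb⟩ :=
    ⟨fun e' => o.1 (e'.map (closure D).subtype), by rw [← Subgroup.orderOf_coe]; exact o.2⟩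
  exact (hD.sub _).not_mem_pCore (b := ⟨b, mem_cl hb⟩) he hb o' h2

theorem cm_rt : Rt (commutingMembers D d) := by
  convert hD.inter (centralizer {d}) using 1
  ext x
  exact and_congr_right fun _ => mem_centralizer_singleton_iff.symm

theorem wd_eq : {w | IsIsolatedElem (OddAdj (commutingMembers D d)) (commutingMembers D d) w} = Wd D d :=
  Set.ext fun _ => hD.cm_rt.iso_iff.trans ⟨fun h => ⟨h.1.1, h.1.2.symm, fun z hz c => h.2 z ⟨hz, c.symm⟩⟩,
    fun h => ⟨⟨h.1, h.2.1.symm⟩, fun z hz => h.2.2 z hz.1 hz.2.symm⟩⟩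

theorem wd_closure [Finite G] (he : e ∈ D) (h : e ∈ closure (Wd D d)) : e ∈ Wd D d := by
  have c : Commute d e := comm_closure (fun _ h => h.2.1) h
  refine ⟨he, c, fun z hz c' => (hD.cm_rt (d := d)).iso_closure ⟨he, c.symm⟩ (closure_mono ?_ h) ⟨hz, c'.symm⟩⟩
  exact fun w hw => ⟨⟨hw.1, hw.2.1.symm⟩, fun z hz => hw.2.2 z hz.1 hz.2.symm⟩

theorem he_of (hE : ∀ d ∈ D, (sameCommutingSubgroup D d : Set G) = sameCommutingClass D d ∪ {1}) :
    HE D := fun a ha b hb h ne => by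
  rcases (hE a ha).le (mul_mem (mem_cl (mem_ec.2 ⟨ha, Ec.refl D a⟩)) (mem_cl (mem_ec.2 ⟨hb, h⟩))) with e | e
  · exact e.1
  · exact absurd (eq_of_mul_eq_one' (hD.sqr hb) e) ne

variable [Finite G] (ho : IsConnectedSet (OddAdj D) D)
include ho

omit [Finite G] in
theorem exists_br (hn : Nd D) (he : e ∈ D) : ∃ b ∈ D, ∃ c ∈ D, Vp b c ∧ b * cj c b = e := by
  obtain ⟨b, hb, c, hc, v⟩ := hn
  obtain ⟨g, hg, rfl⟩ := hD.oc_conj' (ho _ (hD.vp_mem hb hc v) e he)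
  exact ⟨_, hD.cjm hg hb, _, hD.cjm hg hc, vp_cj.2 v, by rw [cj_mul, cj_cj' g]⟩

theorem wd_eq_xp (hE : HE D) (hd : d ∈ D) : Wd D d = productPartners D d ∪ {d} := by
  refine Set.ext fun e => ⟨fun he => ?_, ?_⟩
  · by_cases h : e = d
    · exact Or.inr h
    · exact Or.inl (mem_xp.2 ⟨he.1, he.2.1, h, hD.rb ho hE hd he (Ne.symm h)⟩)
  · rintro (h | rfl)
    · obtain ⟨h1, h2, -, h3⟩ := mem_xp.1 h
      exact hD.wd_of_xp ⟨hd, h1, h2, h3⟩ (Ec.refl D d)
    · exact ⟨hd, Commute.refl _, fun z _ c o => o.1 c⟩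

theorem wd_comm (hE : HE D) (hn : Nd D) (hd : d ∈ D) :
    ⁅closure (Wd D d), closure (Wd D d)⁆ = sameCommutingSubgroup D d := by
  refine le_antisymm (comm_closure_le (fun z hz s hs => (comm_closure (fun e he =>
    ((mem_ec.1 he).2 s hs.1).1 hs.2.1.symm) hz).symm) fun s hs t ht => ?_) ((closure_le _).2 fun e he => ?_)
  · rcases hD.tri hs.1 ht.1 with h | h | h
    · rw [h.commutator_eq]; exact one_mem _
    · exact absurd h (wd_no_od s hs t ht)
    · rw [← hD.br_eq_comm hs.1]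
      refine mem_cl (mem_ec.2 ⟨hD.vp_mem hs.1 ht.1 h, hD.ra ho hE
        ⟨hd, hs.1, hs.2.1, hD.rb ho hE hd hs ?_⟩ ⟨hd, ht.1, ht.2.1, hD.rb ho hE hd ht ?_⟩ h⟩)
      · rintro rfl; exact h.1 ht.2.1
      · rintro rfl; exact h.1 hs.2.1.symm
  · obtain ⟨he, h⟩ := mem_ec.1 he
    obtain ⟨b, hb, c, hc, v, rfl⟩ := hD.exists_br ho hn he
    rw [hD.br_eq_comm hb] at *
    exact commutator_mem_commutator (mem_cl (hD.wd_of_xp (hD.br_eq_comm hb c ▸ hD.xp_l hb hc v).symm h))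
      (mem_cl (hD.wd_of_xp (hD.br_eq_comm hb c ▸ hD.xp_r hb hc v).symm h))

theorem ec_of_central (hE : HE D) (hd : d ∈ D) (he : e ∈ Wd D d) (h : ∀ y ∈ Wd D d, Commute e y) :
    Ec D d e := by
  by_contra hn
  have h1 := hD.rb ho hE hd he fun e => hn (e ▸ Ec.refl D d)
  obtain ⟨w, hw, v, e1⟩ := hD.exists_cj_eq ho he.1 hd he.2.1.symm (he.2.1.eq ▸ h1) fun e => hn e.symm
  exact v.1 (h w (hD.wd_of_xp (e1 ▸ hD.xp_r he.1 hw v).symm (Ec.refl D d)))

end Rt

end Cfsg.Lib.RI
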