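import Cfsg.Agent.Lib.RI.Cls2
import Cfsg.Agent.Lib.RI.Mouf

/-!
# Odd transpositions with connected commuting graph: no Suzuki groups.  See `docs/RI.md`.
-/

set_option autoImplicit false

namespace Cfsg.Lib.RI

open Subgroup Cfsg.Lib.Inv Cfsg.Lib.Core Cfsg.Lib.BS Relation
open scoped commutatorElement

universe v

variable {G : Type*} [Group G] {D B C : Set G} {a b c d e e' f g j k m u v w x x' y y' z : G}

theorem exists_pow_four (h : Two z) (h1 : z * z ≠ 1) :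
    ∃ n : ℕ, z ^ n * z ^ n ≠ 1 ∧ z ^ n * z ^ n * (z ^ n * z ^ n) = 1 := by
  obtain ⟨k, hk⟩ := h
  induction k generalizing z with
  | zero => exact (h1 (by rw [pow_zero, pow_one] at hk; rw [hk, one_mul])).elim
  | succ k ih =>
    by_cases h2 : z * z * (z * z) = 1
    · exact ⟨1, by rwa [pow_one], by rwa [pow_one]⟩
    · obtain ⟨n, h⟩ := ih h2 (by rw [← sq, ← pow_mul, ← hk, pow_succ'])
      exact ⟨2 * n, by rwa [pow_mul, sq]⟩

theorem exists_comm_not_mem [Finite G] {P Q E Q₀ K : Subgroup G} {t s r : G} (h : RS P Q E Q₀ K t s r)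
    (hn : ¬ IsMulCommutative Q) : ∃ z ∈ Q, ∃ k ∈ K, ⁅z, k⁆ ∈ Q ∧ ⁅z, k⁆ * ⁅z, k⁆ ≠ 1 := by
  obtain ⟨z, hz, h1⟩ : ∃ z ∈ Q, z ∉ Q₀ := by
    by_contra! h1; exact hn (le_antisymm h1 h.Q0_le ▸ h.Q0_comm)
  obtain ⟨k, h2, h3, h4⟩ := h.exists_K_ne_one h.rk2
  have hk := (h.memK k).2 ⟨h2, h3⟩
  have h5 : ⁅z⁻¹, k⁆ ∈ Q := by
    simpa [commutatorElement_def, mul_assoc] using mul_mem (inv_mem hz) (h.conj_mem_Q (h.D_le h2) hz)
  refine ⟨_, inv_mem hz, k, hk, h5, fun e => h1 ?_⟩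
  obtain ⟨y, hy, e1⟩ := ZD.exists_comm_eq (h.Q0_norm (h.D_le h2))
    (fun l hl e => h.fpf hk h4 (h.Q0_le hl) e) ((h.memQ0 _).2 ⟨h.QH h5, e⟩)
  have := h.fpf hk h4 (mul_mem hz (inv_mem (h.Q0_le hy))) (by
    calc k * (z * y⁻¹) = z * ⁅z⁻¹, k⁆ * k * y⁻¹ := by simp [commutatorElement_def, mul_assoc]
      _ = z * y⁻¹ * k := by rw [← e1]; group)
  rwa [mul_inv_eq_one.1 this]

namespace OT

variable [Finite G] (H : OT D)
include H

omit H in
theorem nz_line (hC : CB D C) (h : ∀ y ∈ C, Commute y u) (hd : d ∈ C)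
    (hg : g ∈ closure C) (h1 : Commute (cj g d) d) :
    g ∈ normalizer (Es D u ∪ {c | c ∈ C ∧ Commute c d}) := mem_normalizer_fintype (by
  rintro p (hp | hp)
  · exact Or.inl (by
      rwa [← cj_def, cj_of_comm (comm_closure (fun y hy => ((hp.2 y (hC.sub hy)).1 (h y hy)).symm) hg).symm])
  · exact Or.inr ⟨hC.bt.rt.cjm hg hp.1, hC.bt.trans (hC.bt.rt.cjm hg hp.1) (hC.bt.rt.cjm hg hd) hd
      (Commute_cj g hp.2) h1⟩)

variable [IsSimpleGroup G] (hg : closure D = ⊤)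
include hg

theorem sz_final (hC : CB D C) (hd : d ∈ C) (hx : x ∈ C) (h : ¬ Commute d x) (hv : v ∈ C)
    (c1 : Commute v d) (hn : ¬ Ec D d v) (hk : g ∈ closure (Xs D (Es D d) x)) (t2 : Two g)
    (c2 : Commute (cj g d) d) (h1 : ∀ c ∈ C, Commute c d → Ec D (cj g c) c) (he : e ∈ Es D d)
    (h2 : pr (Xs D (Es D d) x) (g * g) = pr (Xs D (Es D d) x) e) : False := by
  have hB := hC.bt
  have o := hB.od hd hx h
  have hd' := hC.sub hd
  have hx' := hC.sub hx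
  have hk' := H.x_le hC hd hx hk
  obtain ⟨P, Q, E, Q₀, K, s, r, hR, hd0⟩ := hB.model hd hx h
  have h3 : ∀ c ∈ C, Commute c d → Commute g c := fun c hc e => cj_eq_iff.1 (H.pr_inj hg hB
    (hC.es c hc) (hC.sub hc) ⟨hC.sub (hB.rt.cjm hk' hc), (h1 c hc e).symm⟩ (self_es (hC.sub hc)) (by
      rw [pr_cj hk' (mem_cl hc)]
      exact cj_of_comm (hR.Q0_central ((hB.mem_Q0 hR hd hd0 hc).2 e) (hB.mem_Q hR hd hd0 hk' t2 c2)).symm))
  have m1 := H.x_es hd' hx' o he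
  have h4 := fun y => H.x_ker (y := y) hg hd' hx' o (mul_mem (mem_cl m1) (mul_mem hk hk)) (by
    rw [pr_mul (mem_cl m1) (mul_mem hk hk), h2, (H.x_bt hd' hx' o).sqr m1])
  have he' := hC.es d hd he
  have c3 := (he.2.comm hd').symm
  have n1 : ¬ Commute x e := (H.rt.es_od hd' hx' o e he).2.1
  obtain ⟨w, hw, e1⟩ := H.cb_fib hC hv he' (hB.trans hv hd he' c1 c3.symm)
  obtain ⟨y, hy, e2, e3⟩ := hB.bij hx he' n1 (hC.es v hv hw) e1
  have c4 := hB.comm_of_pr_eq hy hx e2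
  have mκ := mul_mem (mem_cl hx) (mem_cl hy)
  have kκ := (hB.pr_mul_eq_one hx hy).2 e2.symm
  have sκ := mul_sq_of_comm (hB.rt.sqr hx) (hB.rt.sqr hy) c4.symm
  have cκ : Commute (x * y) x := (Commute.refl x).mul_left c4
  have cζ : Commute (cj (e * (g * g)) (x * y)) x := by
    simpa only [cj_of_comm (h4 x (xs_self hx'))] using Commute_cj (e * (g * g)) cκ
  generalize x * y = κ at *
  have mm := mul_mem mκ (cj_mem hk' mκ)
  have km : pr C (κ * cj g κ) = 1 := by rw [pr_mul mκ (cj_mem hk' mκ), pr_cj hk' mκ, kκ]; simp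
  have h5 : ∀ c ∈ C, Commute c d → Commute (κ * cj g κ) c := fun c hc e => cj_eq_iff.1 (by
    have := cj_cj' g κ c
    rw [cj_of_comm (h3 _ (hB.rt.cjm mκ hc) (hB.ker_cm mκ kκ hc hd e)), cj_of_comm (h3 c hc e)] at this
    rw [← cj_cj, ← this, cj_sq sκ])
  obtain ⟨c, hc, e4, e5⟩ := hB.bij hd hx h (hB.rt.cjm mm hx) (pr_cj_ker mm km (mem_cl hx))
  have c5 := hB.comm_of_pr_eq hc hd e4
  have sn := mul_sq_of_comm (hB.rt.sqr hd) (hB.rt.sqr hc) c5.symm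
  have c6 : Commute (d * c * (κ * cj g κ)) x := cj_eq_iff.1 (by rw [← cj_cj, ← e5, cj_sq sn])
  have c7 : Commute (d * c * (κ * cj g κ)) g := comm_closure (by
    rintro s (rfl | hs)
    · exact c6
    · have e := (hs.2.comm hd').symm
      have hs := hC.es d hd hs
      exact (e.symm.mul_left (hB.trans hc hd hs c5 e.symm)).mul_left (h5 s hs e)) (xs_le hk)
  have c8 : Commute (d * c) (κ * cj g κ) :=
    ((h5 d hd (Commute.refl d)).mul_right (h5 c hc c5)).symm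
  have c9 : Commute g (κ * cj g κ) := by
    have := ((h3 d hd (Commute.refl d)).mul_right (h3 c hc c5)).mul_right c7.symm
    rwa [cancel2 sn] at this
  have e6 : cj g κ = κ * (κ * cj g κ) := (cancel2 sκ _).symm
  have c10 : Commute (cj (g * g) κ) x := by
    have := c6.mul_left c6
    rw [mul_assoc, ← c8.left_comm, cancel2 sn] at this
    rw [← cj_cj, e6, cj_mul, cj_of_comm c9, e6, mul_assoc, ← e6]
    exact cκ.mul_left this
  have e7 : g * g = e * (g * g) * e := by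
    rw [(h4 e m1).eq, cancel2 (hB.rt.sqr he')]
  have e8 : cj e κ = e * w * κ := by
    rw [← e3, cj_inv_inv sκ, cj_inv_inv (hB.rt.sqr he')]; simp only [mul_assoc, sκ, mul_one]
  rw [e7, ← cj_cj, e8, cj_mul] at c10
  have c11 := c10.mul_left cζ.inv_left
  rw [mul_inv_cancel_right, ← cj_of_comm (h4 x (xs_self hx')), commute_cj] at c11
  have := H.of_mul hx' he.1 hw.1 (hB.comm_of_pr_eq he' (hC.es v hv hw) e1.symm) c11.symm n1
  exact hn (he.2.trans (this ▸ hw.2.symm))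

theorem no_sz (ih : ∀ z ∈ D, ∀ d ∈ D, ∀ x ∈ D, Commute d z → Commute x z → Od d x → N3 D d x →
    BT (Cz D z d)) (hd : d ∈ D) (hx : x ∈ D) (o : Od d x) : ¬ N3 D d x := fun h3 => by
  have cb : ∀ z ∈ D, ∀ x ∈ D, Commute d z → Commute x z → Od d x → N3 D d x → CB D (Cz D z d) :=
    fun z hz x hx c1 c2 o h => ⟨ih z hz d hd x hx c1 c2 o h, cz_sub, fun y hy =>
      H.cz_es hz (H.rt.cz_step (cz_self hd c1) hx c2 o) o.ne.symm hy⟩
  obtain ⟨v, hv, c1, hn, o1⟩ := H.g1 hg hd hx o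
  obtain ⟨u, hu, c2, c3, c4⟩ := H.rt.pp H.deg H.four H.con hv hd hx c1
  have hC := cb u hu x hx c3.symm c4.symm o h3
  have hB := hC.bt
  have md := cz_self hd c3.symm
  have mx := H.rt.cz_step md hx c4.symm o
  have mv := H.rt.cz_step mx hv c2.symm o1.symm
  obtain ⟨f, hf, c5, c6, o2⟩ := H.rt.qq H.deg H.four H.ocon H.con hd hv hx c1 hn o.symm o1.symm
  have n1 : ¬ Commute u f := fun e => o1.1 (hB.trans mv (H.rt.cz_step md hf e.symm o2.symm) mx c5.symm c6)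
  have hC' := cb v hv f hf c1.symm c5 o2.symm
    (H.n3_symm hf hd o2 (H.n3_comm hf hd c6 o2 hx (H.n3_symm hd hx o h3)))
  have md' := cz_self hd c1.symm
  have mf := H.rt.cz_step md' hf c5 o2.symm
  have mu := H.rt.cz_step mf hu c2 (H.od_of hu hf n1).symm
  have hL : Es D v ∪ {c | c ∈ Cz D v d ∧ Commute c d} = Es D u ∪ {c | c ∈ Cz D u d ∧ Commute c d} := by
    refine Set.Subset.antisymm ?_ ?_ <;> rintro p (hp | hp)
    · exact Or.inr ⟨hC.es v mv hp, ((hp.2 d hd).1 c1.symm).symm⟩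
    · exact (H.line_sub hv hC'.bt mu mf n1 mv hp.1 (hC'.bt.trans hp.1 md' mu hp.2 c3.symm)).imp
        (fun e => ⟨cz_sub hp.1, e.symm⟩) fun e => ⟨e, hp.2⟩
    · exact Or.inr ⟨hC'.es u mu hp, ((hp.2 d hd).1 c3.symm).symm⟩
    · exact (H.line_sub hu hB mv mx o1.1 mu hp.1 (hB.trans hp.1 md mv hp.2 c1.symm)).imp
        (fun e => ⟨cz_sub hp.1, e.symm⟩) fun e => ⟨e, hp.2⟩
  have nz := fun g => nz_line (g := g) hC (fun y => cz_comm) md
  have fu : ∀ g ∈ closure (Cz D u d), ∀ p ∈ Es D u, cj g p = p := fun g h p hp => cj_of_comm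
    (comm_closure (fun y hy => ((hp.2 y (cz_sub hy)).1 (cz_comm hy)).symm) h).symm
  have fu' : ∀ g ∈ closure (Cz D u d), Ec D (cj g u) u := fun g h => by
    rw [fu g h u (self_es hu)]; exact Ec.refl D u
  have n2 : ¬ Ec D d u := fun e => o.1 ((e x hx).2 c4.symm).symm
  have hX := H.x_cb hd hx o
  have m1 := H.x_es hd hx o (self_es hd)
  have m2 := xs_self (B := Es D d) hx
  obtain ⟨P, Q, E, Q₀, K, s, r, hR, hd0⟩ := hX.bt.model m1 m2 o.1
  obtain ⟨z, hz, k, hk, h4, h5⟩ := exists_comm_not_mem hR (H.sz_type hX hR m1 hd0 m2 h3).1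
  obtain ⟨z, hz', rfl⟩ := pr_surj z
  obtain ⟨k, hk', rfl⟩ := pr_surj k
  have le := H.x_le hC md mx
  have fd : ∀ g ∈ closure (Xs D (Es D d) x), pr _ g ∈ P → Commute (cj g d) d ∧ Ec D (cj g d) d :=
    fun g h e => have := (hX.bt.mem_H hR m1 hd0 h).1 e
      ⟨this, (H.x_ec₀ hd hx o (hX.bt.rt.cjm h m1) this).symm⟩
  have m3 : ⁅z, k⁆ ∈ closure (Xs D (Es D d) x) :=
    mul_mem (mul_mem (mul_mem hz' hk') (inv_mem hz')) (inv_mem hk')
  have e1 : pr _ ⁅z, k⁆ = ⁅pr (Xs D (Es D d) x) z, pr (Xs D (Es D d) x) k⁆ := by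
    rw [commutatorElement_def, pr_mul (mul_mem (mul_mem hz' hk') (inv_mem hz')) (inv_mem hk'),
      pr_mul (mul_mem hz' hk') (inv_mem hz'), pr_mul hz' hk', pr_inv hz', pr_inv hk']; rfl
  rw [← e1] at h4 h5
  obtain ⟨i, n, hn', e2⟩ := Nat.exists_eq_two_pow_mul_odd (orderOf_pos ⁅z, k⁆).ne'
  have t1 := two_of_mem (concl hR).1 h4
  obtain ⟨m, h6, h7⟩ := exists_pow_four (t1.pow n) fun e => h5 (by
    rw [← sq] at e ⊢
    exact (t1.pow 2).eq_one_of_pow hn' (by rw [← pow_mul, mul_comm, pow_mul, e]))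
  rw [← pow_mul, ← pr_pow m3] at h6 h7
  have m4 := pow_mem m3 (n * m)
  have t3 : Two (⁅z, k⁆ ^ (n * m)) := pow_mul ⁅z, k⁆ n m ▸ Two.pow
    ⟨i, by rw [← pow_mul, mul_comm, ← e2, pow_orderOf_eq_one]⟩ m
  have h8 : pr _ (⁅z, k⁆ ^ (n * m)) ∈ P := pr_pow m3 _ ▸ pow_mem (hR.QH h4) _
  obtain ⟨e, he, c7, e3⟩ := hX.bt.exists_mem_Q0 hR m1 hd0 ((hR.memQ0 _).2 ⟨mul_mem h8 h8, h7⟩) h6
  refine H.sz_final hg hC md mx o.1 mv c1 hn m4 t3 (fd _ m4 h8).1 (fun c hc e => ?_)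
    ⟨xs_sub he, H.x_ec₀ hd hx o he c7⟩ (by rw [pr_mul m4 m4, e3])
  refine mouf_rel ⟨Ec.refl D, Ec.symm, Ec.trans⟩ (fun g _ _ h => H.rt.ec_cj (hg.ge (mem_top g)) h)
    (L := Es D u ∪ {c | c ∈ Cz D u d ∧ Commute c d})
    (I := {z | ∃ y ∈ Cz D u d, ∃ y' ∈ Cz D u d, pr _ y = pr (Cz D u d) y' ∧ z = y * y'})
    (Or.inl (self_es hu)) (Or.inr ⟨md, Commute.refl d⟩) n2 ?_ ?_ ?_ ?_ ?_
    (nz z (le hz') (fd z hz' (hR.QH hz)).1) (nz k (le hk') (fd k hk' (hR.K_le_H hk)).1)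
    (fu' z (le hz')) (fd z hz' (hR.QH hz)).2 (fu' k (le hk')) (fd k hk' (hR.K_le_H hk)).2
    (npow_mem_zpowers ..) t3 (Or.inr ⟨hc, e⟩)
  · rintro _ ⟨y, hy, y', hy', e, rfl⟩
    have m := mul_mem (mem_cl hy) (mem_cl hy')
    exact ⟨nz _ m (hB.ker_fix m ((hB.pr_mul_eq_one hy hy').2 e) md), fu' _ m,
      mul_sq_of_comm (hB.rt.sqr hy) (hB.rt.sqr hy') (hB.comm_of_pr_eq hy hy' e)⟩
  · rintro _ ⟨y, hy, y', hy', e, rfl⟩ _ ⟨w, hw, w', hw', e', rfl⟩ p (hp | hp)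
    · have m := mul_mem (mem_cl hy) (mem_cl hy')
      have m' := mul_mem (mem_cl hw) (mem_cl hw')
      rw [fu _ (mul_mem m m') p hp, fu _ (mul_mem m' m) p hp]
      exact Ec.refl D p
    · rw [H.ker_comm hg hC (fun _ hy _ hy' => H.n3_cb hC md mx o.1 h3 hy hy') hy hy' e hw hw' e' hp.1]
      exact Ec.refl D _
  · rintro p (hp | hp) q (hq | hq) e1 e2
    exacts [(e1 hp.2.symm).elim, (e1 hp.2.symm).elim, (e2 hq.2.symm).elim, by
      obtain ⟨w, hw, e3⟩ := H.cb_fib hC hq.1 hp.1 (hB.trans hq.1 md hp.1 hq.2 hp.2.symm)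
      obtain ⟨y, hy, e4, e5⟩ := hB.bij mx hp.1 (fun e => o.1 (hB.trans md hp.1 mx hp.2.symm e.symm))
        (hC.es q hq.1 hw) e3
      exact ⟨_, ⟨x, mx, y, hy, e4.symm, rfl⟩, e5 ▸ hw.2.symm⟩]
  · rintro g h1 h2 _ ⟨y, hy, y', hy', e, rfl⟩
    have h9 : ∀ y ∈ Cz D u d, cj g y ∈ Cz D u d := by
      rintro y ⟨-, hy⟩
      induction hy with
      | refl =>
        rcases nz_cj h1 (Or.inr ⟨md, Commute.refl d⟩) with h | h
        · exact (n2 (by simpa using H.rt.ec_cj (hg.ge (mem_top g⁻¹)) (h2.trans h.2).symm)).elim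
        · exact h.1
      | tail _ h ih =>
        obtain ⟨-, h10, o⟩ := (H.rt.inter _).oddAdj.1 h
        have h11 := H.rt.cjm (hg.ge (mem_top g)) h10.1
        exact H.rt.cz_step ih h11 ((h2 _ h11).1 (Commute_cj g (mem_cz.1 h10).2)) (o.conj g)
    obtain ⟨φ, -, h10⟩ := exists_aut h9
    exact ⟨_, h9 y hy, _, h9 y' hy', by rw [← h10 y (mem_cl hy), ← h10 y' (mem_cl hy'), e], cj_mul ..⟩
  · obtain ⟨κ, h1, h2, h9⟩ := H.match₂ hC'.bt cz_sub md' mu c3.symm (hC'.es d md') (hC'.es u mu)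
    exact ⟨κ, hL ▸ nz_line hC' (fun y => cz_comm) md' h1 (hC'.bt.ker_fix h1 h2 md'), h9.symm⟩

end OT

theorem l2_main (n : ℕ) : ∀ (G : Type v) [Group G] [Finite G], ∀ D : Set G, D.ncard ≤ n → OT D →
    ∀ d ∈ D, ∀ x ∈ D, Od d x → ¬ N3 D d x := by
  induction n with
  | zero => exact fun G _ _ D h _ d hd => absurd ((Set.ncard_pos).2 ⟨d, hd⟩) (by omega)
  | succ n ih =>
    intro G _ _ D hn H d hd x hx o h3
    have hD := H.rt.sub (closure D)
    have ho := ocon_sub H.ocon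
    have hz := fun d => hD.not_mem_zs (a := d) ho H.four.sub
    have := hD.simple_quot (closure_sub D) ho H.four.sub
    have H' : OT _ := ⟨hD.map (QuotientGroup.mk' _) fun d hd e => hz d hd ((QuotientGroup.eq_one_iff d).1 e),
      hD.deg_zs (H.deg.sub _) hz, H.four.sub.map _, hD.ocon_zs hz ho, con_map _ (con_sub H.con)⟩
    have o' : Od (⟨d, mem_cl hd⟩ : closure D) ⟨x, mem_cl hx⟩ :=
      ⟨fun e => o.1 (congrArg Subtype.val e), by rw [← Subgroup.orderOf_coe]; exact o.2⟩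
    refine H'.no_sz (closure_image_top (QuotientGroup.mk'_surjective _) (closure_sub D))
      (fun z hz d hd x hx c1 c2 o h => ?_) ⟨_, hd, rfl⟩ ⟨_, hx, rfl⟩ (hD.od_zs hz hd hx o') ?_
    · have h4 := H'.cz_four hz hd hx c1 c2 o
      have md := cz_self hd c1
      have mx := H'.rt.cz_step md hx c2 o
      refine H'.cz_rt.bt h4 fun hc => ih _ _ (Nat.lt_succ_iff.1 (lt_of_lt_of_le (Set.ncard_lt_ncard
        ⟨cz_sub, fun e => ?_⟩ (Set.toFinite _)) (((Set.ncard_image_le (Set.toFinite _)).trans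
        (Set.ncard_le_ncard_of_injOn Subtype.val (fun _ h => h) Subtype.val_injective.injOn
          (Set.toFinite _))).trans hn))) ⟨H'.cz_rt, H'.deg.mono cz_sub, h4, Rt.oc_ocon, hc⟩ d md x mx o
        fun e he => h e (cz_sub he)
      obtain ⟨w, hw, o⟩ := H'.cz_rt.od_of_ocon Rt.oc_ocon md mx o.ne (e hz)
      exact o.1 (cz_comm hw).symm
    · rintro _ ⟨e, he, rfl⟩ c h
      have o1 := H.od_of he hx fun e1 => by
        have := mul_sq_of_comm (H'.rt.sqr ⟨e, he, rfl⟩) (H'.rt.sqr ⟨_, hx, rfl⟩)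
          (Commute.map (show Commute e ⟨x, mem_cl hx⟩ from Subtype.ext e1) _)
        rw [← sq] at this
        exact absurd (h ▸ orderOf_dvd_of_pow_eq_one this) (by decide)
      have : Fact (Nat.Prime 3) := ⟨Nat.prime_three⟩
      have m := mul_mem e.2 (mem_cl hx)
      refine h3 e he (congrArg Subtype.val (hD.comm_of_zs hz he hd c)) (orderOf_eq_prime (eq_one_of_pr
        (pow_mem m 3) (mem_cl hx) ?_ (odd_pow o1.2 3) ?_) fun e => o1.ne (eq_of_mul_eq_one' (H.rt.sqr hx) e))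
      · rw [pr_pow m, pr_mul e.2 (mem_cl hx), pr_eq e.2, pr_eq (mem_cl hx), ← h, pow_orderOf_eq_one]
      · rw [cj_pow, ← inv_pow, mul_inv_rev, H.rt.inv_eq hx, H.rt.inv_eq (d := e.1) he, cj_inv_inv (H.rt.sqr hx),
          mul_assoc, mul_assoc, H.rt.sqr hx, mul_one]

/-- `⟨E_d, x⟩ ≅ L₂(|E(d)|)`. -/
theorem OT.l2 [Finite G] [IsSimpleGroup G] (H : OT D) (hg : closure D = ⊤) (hd : d ∈ D) (hx : x ∈ D)
    (o : Od d x) : ∃ (F : Type) (_ : Field F) (_ : Fintype F),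
      Fintype.card F = Nat.card (closure (Es D d)) ∧
      Nonempty (closure (insert x (Es D d)) ≃* Matrix.ProjectiveSpecialLinearGroup (Fin 2) F) := by
  have hX := H.x_cb hd hx o
  have hB := hX.bt
  have m1 := H.x_es hd hx o (self_es hd)
  have m2 := xs_self (B := Es D d) hx
  obtain ⟨P, Q, E, Q₀, K, s, r, hR, hd0⟩ := hB.model m1 m2 o.1
  have h1 := l2_main _ G D le_rfl H d hd x hx o
  simp only [N3, not_forall, not_not] at h1
  obtain ⟨e, he, c, h1⟩ := h1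
  obtain ⟨e, he, h1⟩ := H.tp hd he hx c.symm o h1
  have m3 := H.x_es hd hx o he
  have hT := fun e (he : e ∈ Es D d) => And.intro (H.x_es hd hx o he) (he.2.comm hd).symm
  have : Fact (Nat.Prime 3) := ⟨Nat.prime_three⟩
  have h2 := (rs_eq_s hR ((hB.mem_Q0 hR m1 hd0 m3).2 (hT e he).2) (orderOf_eq_prime (by
    rw [← pr_mul (mem_cl m3) (mem_cl m2), ← pr_pow (mul_mem (mem_cl m3) (mem_cl m2)), ← h1,
      pow_orderOf_eq_one, pr_one]) fun e1 => (H.rt.es_od hd hx o e he).2.1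
        (hB.comm_of_pr_eq m3 m2 (eq_of_mul_eq_one' (hB.sqr m2) e1)).symm)).2
  have := hB.simple
  obtain ⟨h3, -⟩ | ⟨-, -, h3⟩ := rs_types hR (hB.gen hR m1 hd0 m2 hT xs_le)
  swap
  · omega
  obtain ⟨h4, F, _, _, -, -, h5, ⟨ψ⟩⟩ := rs_psl hR h3
  have hc : ∀ z ∈ twoZCore (closure (Xs D (Es D d) x)), ∀ g ∈ closure (Xs D (Es D d) x),
      Commute z.1 g := fun z hz g => comm_closure fun y =>
    H.x_ker hg hd hx o z.2 ((pr_eq_one z.2).2 hz)
  have hc' : twoZCore (closure (Xs D (Es D d) x)) ≤ center _ := fun z hz =>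
    mem_center_iff.2 fun g => Subtype.ext (hc z hz g g.2).symm
  obtain ⟨b, hb, c1, m⟩ := H.rt.four_at H.ocon H.four hd
  have hp := hB.rt.perfect xs_ocon (H.rt.four_oc H.deg (H.rt.inter _) Set.inter_subset_left m1
    m2.1 o (fun e he => (hT e he).1.1) hb c1 m)
  refine ⟨F, _, _, h5.trans (H.card_Q0 hg hX hR m1 hd0), (BT.equiv (eq_bot_of_oc hc' hp h4
    fun z hz e => ?_)).map fun φ => ((MulEquiv.subgroupCongr (H.x_cl hd hx o)).symm.trans φ).trans ψ⟩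
  have key : ∀ g ∈ Q.comap (QuotientGroup.mk' _), ∃ m ∈ closure (Es D d), ∃ w ∈ twoZCore
      (closure (Xs D (Es D d) x)), g.1 = m * w.1 := fun g h => by
    have h6 : pr _ g.1 ∈ Q₀ := by rw [pr_eq g.2]; exact h3 ▸ h
    by_cases h7 : pr (Xs D (Es D d) x) g.1 = 1
    · exact ⟨1, one_mem _, g, (pr_eq_one g.2).1 h7, (one_mul _).symm⟩
    obtain ⟨y, hy, c, e⟩ := hB.exists_mem_Q0 hR m1 hd0 h6 h7
    exact ⟨y, mem_cl ⟨xs_sub hy, H.x_ec₀ hd hx o hy c⟩, ⟨_, mul_mem (mem_cl hy) g.2⟩, (pr_eq_one _).1 (by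
      rw [pr_mul (mem_cl hy) g.2, ← e, hB.sqr hy]), (cancel2 (hB.rt.sqr hy) _).symm⟩
  have le : closure (Es D d) ≤ closure (Xs D (Es D d) x) := closure_mono fun e he => (hT e he).1
  have h6 := Transfer.mem_commutator_of_mem_center (H := Q.comap (QuotientGroup.mk' _)) (x := z) (by
    rw [mem_comap, QuotientGroup.mk'_apply, (QuotientGroup.eq_one_iff _).2 hz]; exact one_mem _)
    (hp ▸ mem_top _) (hc' hz) (by
      obtain ⟨S, hS⟩ := RO.exists_sylow_eq hR.toRO hR.rk2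
      rw [index_comap_of_surjective _ (QuotientGroup.mk'_surjective _), ← hS]
      exact Nat.Coprime.coprime_dvd_left (orderOf_dvd_of_pow_eq_one (sq z ▸ e))
        ((Nat.prime_two.coprime_iff_not_dvd).2 S.not_dvd_index))
  rwa [commutator_eq_bot_iff_le_centralizer.2 fun g h g' h' => Subtype.ext (by
    obtain ⟨m, h7, w, h8, e1⟩ := key g h
    obtain ⟨m', h9, w', h10, e2⟩ := key g' h'
    change Commute g'.1 g.1
    rw [e1, e2]
    exact ((comm_closure (fun s hs => (comm_closure (fun t ht => Rt.es_comm hs ht) h9).symm) h7).mul_right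
      (hc w h8 _ (le h9)).symm).mul_left ((hc w' h10 _ (le h7)).mul_right (hc w' h10 _ w.2)))] at h6

end Cfsg.Lib.RI
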